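import Groth.Agent.FlatAscent.FieldExt

/-!
# Base change of regular and normal homomorphisms
-/

universe u

namespace Groth.Agent.FlatAscent

open scoped TensorProduct

variable {A B A' : Type u} [CommRing A] [CommRing B] [CommRing A'] [Algebra A B] [Algebra A A']

theorem isNoetherianRing_residue_tensor [IsNoetherianRing B]
    (hft : Algebra.FiniteType A B ∨ Algebra.EssFiniteType A A') (P : Ideal A') [P.IsPrime]
    (k' : Type u) [Field k'] [Algebra P.ResidueField k'] [Algebra A k'] [Algebra A' k']
    [IsScalarTower A A' k'] [IsScalarTower A' P.ResidueField k'] [Module.Finite P.ResidueField k'] :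
    IsNoetherianRing (k' ⊗[A] B) := by
  rcases hft with h | h
  · exact Algebra.EssFiniteType.isNoetherianRing k' (k' ⊗[A] B)
  · have : Algebra.EssFiniteType A' k' := Algebra.EssFiniteType.comp A' P.ResidueField k'
    have : Algebra.EssFiniteType A k' := Algebra.EssFiniteType.comp A A' k'
    have := Algebra.EssFiniteType.isNoetherianRing B (B ⊗[A] k')
    exact isNoetherianRing_of_ringEquiv (B ⊗[A] k') (Algebra.TensorProduct.comm A B k').toRingEquiv

/-- Fibre properties after base change. -/
theorem base_change_fibre [IsNoetherianRing B]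
    (hft : Algebra.FiniteType A B ∨ Algebra.EssFiniteType A A')
    (Prop' : ∀ (R : Type u) [CommRing R], Prop)
    (hP : ∀ (R R' : Type u) [CommRing R] [CommRing R'], (R ≃+* R') → Prop' R → Prop' R')
    (hN : ∀ (p : Ideal A) [p.IsPrime], IsNoetherianRing (p.Fiber B))
    (hL : ∀ (p : Ideal A) [p.IsPrime] (L : Type u) [Field L] [Algebra p.ResidueField L]
      [IsNoetherianRing (p.Fiber B)], IsNoetherianRing (L ⊗[p.ResidueField] p.Fiber B) →
      Prop' (L ⊗[p.ResidueField] p.Fiber B))
    (P : Ideal A') [P.IsPrime] (k' : Type u) [Field k'] [Algebra P.ResidueField k']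
    [Module.Finite P.ResidueField k'] :
    Prop' (k' ⊗[P.ResidueField] P.Fiber (A' ⊗[A] B)) := by
  let : Algebra A' k' := ((algebraMap P.ResidueField k').comp (algebraMap A' P.ResidueField)).toAlgebra
  have : IsScalarTower A' P.ResidueField k' := .of_algebraMap_eq fun _ => rfl
  let : Algebra A k' := ((algebraMap A' k').comp (algebraMap A A')).toAlgebra
  have : IsScalarTower A A' k' := .of_algebraMap_eq fun _ => rfl
  let p : Ideal A := RingHom.ker (algebraMap A k')
  have : p.IsPrime := RingHom.ker_isPrime _
  let : Algebra p.ResidueField k' := (Ideal.ResidueField.lift p (algebraMap A k') le_rfl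
    fun x hx => isUnit_iff_ne_zero.mpr hx).toAlgebra
  have : IsScalarTower A p.ResidueField k' :=
    .of_algebraMap_eq fun x => (Ideal.ResidueField.lift_algebraMap ..).symm
  have := isNoetherianRing_residue_tensor (B := B) hft P k'
  have := hN p
  have h1 : IsNoetherianRing (k' ⊗[p.ResidueField] p.Fiber B) :=
    isNoetherianRing_of_ringEquiv _
      (Algebra.TensorProduct.cancelBaseChange A p.ResidueField k' k' B).symm.toRingEquiv
  exact hP _ _ ((Algebra.TensorProduct.cancelBaseChange A p.ResidueField k' k' B).toRingEquiv.trans
    (((Algebra.TensorProduct.cancelBaseChange A A' k' k' B).symm.toRingEquiv).trans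
      (Algebra.TensorProduct.cancelBaseChange A' P.ResidueField k' k' (A' ⊗[A] B)).symm.toRingEquiv))
    (hL p k' h1)

/-- Fibre properties descend from a base change. -/
theorem base_change_fibre_desc (Prop' : ∀ (R : Type u) [CommRing R], Prop)
    (hP : ∀ (R R' : Type u) [CommRing R] [CommRing R'], (R ≃+* R') → Prop' R → Prop' R')
    (hdesc : ∀ (R T : Type u) [CommRing R] [CommRing T] [Algebra R T] [Module.FaithfullyFlat R T],
      Prop' T → Prop' R)
    (h : ∀ (P : Ideal A') [P.IsPrime] (L : Type u) [Field L] [Algebra P.ResidueField L],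
      Module.Finite P.ResidueField L → Prop' (L ⊗[P.ResidueField] P.Fiber (A' ⊗[A] B)))
    [Module.FaithfullyFlat A A'] (p : Ideal A) [p.IsPrime] (k' : Type u) [Field k']
    [Algebra p.ResidueField k'] [Module.Finite p.ResidueField k'] :
    Prop' (k' ⊗[p.ResidueField] p.Fiber B) := by
  obtain ⟨P, _, hlie⟩ := Ideal.exists_isPrime_liesOver_of_faithfullyFlat (B := A') p
  let : Algebra p.ResidueField P.ResidueField :=
    (Ideal.ResidueField.map p P (algebraMap A A') hlie.over).toAlgebra
  let W := P.ResidueField ⊗[p.ResidueField] k'
  have : Nontrivial W := (Algebra.TensorProduct.includeRight_injective (R := p.ResidueField)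
    (A := P.ResidueField) (B := k') (algebraMap p.ResidueField P.ResidueField).injective).nontrivial
  obtain ⟨m, hm⟩ := Ideal.exists_maximal W
  let := Ideal.Quotient.field m
  let L := W ⧸ m
  have hLfin : Module.Finite P.ResidueField L := Module.Finite.of_surjective
    (Ideal.Quotient.mkₐ P.ResidueField m).toLinearMap Ideal.Quotient.mk_surjective
  let : Algebra k' L := (((Ideal.Quotient.mk m).comp
    (Algebra.TensorProduct.includeRight : k' →ₐ[p.ResidueField] W).toRingHom)).toAlgebra
  have : IsScalarTower A' P.ResidueField L := inferInstance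
  have : IsScalarTower A A' L := inferInstance
  let : Algebra A k' := ((algebraMap p.ResidueField k').comp (algebraMap A p.ResidueField)).toAlgebra
  have : IsScalarTower A p.ResidueField k' := .of_algebraMap_eq fun _ => rfl
  have : IsScalarTower A k' L := .of_algebraMap_eq fun a => by
    change Ideal.Quotient.mk m (algebraMap P.ResidueField W (algebraMap A' P.ResidueField (algebraMap A A' a))) =
      Ideal.Quotient.mk m (Algebra.TensorProduct.includeRight (algebraMap p.ResidueField k' (algebraMap A p.ResidueField a)))
    rw [AlgHom.commutes, IsScalarTower.algebraMap_apply p.ResidueField P.ResidueField W]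
    congr 2
    exact (Ideal.ResidueField.map_algebraMap ..).symm
  let R := k' ⊗[A] B
  have hT : Prop' (R ⊗[k'] L) := hP _ _
    (((Algebra.TensorProduct.cancelBaseChange A' P.ResidueField L L (A' ⊗[A] B)).toRingEquiv.trans
      (Algebra.TensorProduct.cancelBaseChange A A' L L B).toRingEquiv).trans
      ((Algebra.TensorProduct.cancelBaseChange A k' L L B).symm.toRingEquiv.trans
        (Algebra.TensorProduct.comm k' L R).toRingEquiv)) (h P L hLfin)
  exact hP _ _ (Algebra.TensorProduct.cancelBaseChange A p.ResidueField k' k' B).symm.toRingEquiv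
    (hdesc R (R ⊗[k'] L) hT)

end Groth.Agent.FlatAscent

namespace Groth.Agent.FlatAscent

open scoped TensorProduct

/-- Localization is base change. -/
theorem nonempty_localization_equiv (A B : Type u) [CommRing A] [CommRing B] [Algebra A B]
    (M : Submonoid A) (A' B' : Type u) [CommRing A'] [CommRing B'] [Algebra A A'] [Algebra B B']
    [Algebra A' B'] [Algebra A B'] [IsScalarTower A A' B'] [IsScalarTower A B B'] [IsLocalization M A']
    [IsLocalization (Algebra.algebraMapSubmonoid B M) B'] : Nonempty (A' ⊗[A] B ≃ₐ[A'] B') :=
  haveI : Algebra.IsPushout A B A' B' := Algebra.isPushout_of_isLocalization M _ _ _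
  haveI : Algebra.IsPushout A A' B B' := Algebra.IsPushout.symm inferInstance
  ⟨Algebra.IsPushout.equiv A A' B B'⟩

theorem essFiniteType_of_isLocalization {A A' : Type u} [CommRing A] [CommRing A'] [Algebra A A']
    (M : Submonoid A) [IsLocalization M A'] : Algebra.EssFiniteType A A' :=
  Algebra.EssFiniteType.of_isLocalization A' M

end Groth.Agent.FlatAscent
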