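import Groth.Agent.FlatAscent.Descent
import Groth.Agent.PP16Lib.GeomRegLocal
import Groth.Agent.S4512
import Mathlib.RingTheory.Smooth.Locus
import Mathlib.RingTheory.Smooth.Flat

/-!
# Smooth algebras are regular homomorphisms
-/

universe u

namespace Groth.Agent.FlatAscent

open IsLocalRing
open scoped TensorProduct

theorem isGeometricallyRegular_of_smooth {k S : Type u} [Field k] [CommRing S] [Algebra k S]
    [Algebra.Smooth k S] : CAlg.IsGeometricallyRegular k S := by
  have : IsNoetherianRing S := Algebra.FiniteType.isNoetherianRing k S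
  refine PP16Lib.isGeometricallyRegular_iff_atPrime.mpr fun q _ => (S4512.result ?_).1
  have : Algebra.FormallySmooth k (Localization.AtPrime q) :=
    have := Algebra.FormallySmooth.of_isLocalization (R := S) (Rₘ := Localization.AtPrime q) q.primeCompl
    Algebra.FormallySmooth.comp k S (Localization.AtPrime q)
  intro E _ _ N hN ψ _
  exact ⟨Algebra.FormallySmooth.lift N ⟨2, hN⟩ ψ, Algebra.FormallySmooth.comp_lift N ⟨2, hN⟩ ψ⟩

/-- Smooth algebras are regular. -/
theorem isRegularHom_of_smooth (A B : Type u) [CommRing A] [CommRing B] [Algebra A B]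
    [Algebra.Smooth A B] : CAlg.IsRegularHom A B := by
  refine ⟨Algebra.Smooth.flat A B, fun p _ => ?_⟩
  have : Algebra.Smooth p.ResidueField (p.Fiber B) := inferInstance
  exact ⟨Algebra.FiniteType.isNoetherianRing p.ResidueField (p.Fiber B), isGeometricallyRegular_of_smooth⟩

/-- Smooth algebras are normal. -/
theorem isNormalHom_of_smooth (A B : Type u) [CommRing A] [CommRing B] [Algebra A B]
    [Algebra.Smooth A B] : EGA4.IsNormalHom A B :=
  ⟨(isRegularHom_of_smooth A B).1, fun p _ k' _ _ hk => by
    haveI := ((isRegularHom_of_smooth A B).2 p).2 k' hk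
    exact isNormalRing_of_isRegularRing⟩

/-- Regularity transported along a ring isomorphism. -/
theorem isRegularRing_transport {R S : Type u} [CommRing R] [CommRing S] (e : R ≃+* S)
    (h : IsRegularRing R) : IsRegularRing S :=
  haveI := h
  IsRegularRing.of_ringEquiv e

end Groth.Agent.FlatAscent
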