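import Groth.Agent.FlatAscent.FieldExt
import Groth.Agent.FlatAscent.Smooth

/-!
# Tensor products over a field of geometrically regular / normal algebras
-/

universe u

namespace Groth.Agent.FlatAscent

open scoped TensorProduct

variable {k : Type u} [Field k] {S : Type u} [CommRing S] [Algebra k S]

/-- After a finitely generated extension, for purely inseparable tests. -/
theorem isNormalRing_of_purelyInseparable [IsNoetherianRing S]
    (hS : ∀ (k' : Type u) [Field k'] [Algebra k k'], Module.Finite k k' → IsPurelyInseparable k k' →
      EGA4.IsNormalRing (k' ⊗[k] S))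
    (K : Type u) [Field K] [Algebra k K] [Algebra.EssFiniteType k K] :
    EGA4.IsNormalRing (K ⊗[k] S) :=
  of_geometric (fun R _ => EGA4.IsNormalRing R)
    (fun R _ _ _ e h => isNormalRing_of_ringEquiv e h)
    (fun R _ h => haveI := h; isNormalRing_of_isRegularRing)
    (fun R T _ _ _ _ _ _ hR hT => isNormalRing_of_fibres hR hT)
    (fun R T _ _ _ _ h => isNormalRing_of_faithfullyFlat h) hS K

theorem isRegularRing_of_geometricallyRegular [IsNoetherianRing S]
    (hS : CAlg.IsGeometricallyRegular k S) (K : Type u) [Field K] [Algebra k K]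
    [Algebra.EssFiniteType k K] : IsRegularRing (K ⊗[k] S) :=
  of_geometric (fun R _ => IsRegularRing R)
    (fun _ _ _ _ e h => isRegularRing_transport e h) (fun _ _ h => h)
    (fun R T _ _ _ _ _ _ hR hT => haveI := hR; isRegularRing_of_fibres hT)
    (fun R T _ _ _ _ h => haveI := h; J2Lib.isRegularRing_of_faithfullyFlat R T)
    (fun k' _ _ h _ => hS k' h) K

/-- Geometric regularity over `k` and over a finitely generated extension. -/
theorem isGeometricallyRegular_iff_extension [IsNoetherianRing S] (K : Type u) [Field K]
    [Algebra k K] [Algebra.EssFiniteType k K] :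
    CAlg.IsGeometricallyRegular k S ↔ CAlg.IsGeometricallyRegular K (K ⊗[k] S) := by
  refine ⟨fun h K' _ _ hK' => ?_, fun h k' _ _ hk' => ?_⟩
  · let : Algebra k K' := ((algebraMap K K').comp (algebraMap k K)).toAlgebra
    have : IsScalarTower k K K' := .of_algebraMap_eq fun _ => rfl
    have : Algebra.EssFiniteType k K' := Algebra.EssFiniteType.comp k K K'
    exact isRegularRing_transport
      (Algebra.TensorProduct.cancelBaseChange k K K' K' S).symm.toRingEquiv
      (isRegularRing_of_geometricallyRegular h K')
  · have : Module.Finite K (K ⊗[k] k') := inferInstance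
    obtain ⟨m, hm⟩ := Ideal.exists_maximal (K ⊗[k] k')
    let := Ideal.Quotient.field m
    let K' := (K ⊗[k] k') ⧸ m
    let j : k' →ₐ[k] K' := (Ideal.Quotient.mkₐ k m).comp Algebra.TensorProduct.includeRight
    let : Algebra k' K' := j.toRingHom.toAlgebra
    have : IsScalarTower k k' K' := .of_algebraMap_eq fun x => (j.commutes x).symm
    have h1 : IsRegularRing (K' ⊗[k] S) := isRegularRing_transport
      (Algebra.TensorProduct.cancelBaseChange k K K' K' S).toRingEquiv (h K' inferInstance)
    let R := k' ⊗[k] S
    let T := R ⊗[k'] K'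
    have hT : IsRegularRing T := isRegularRing_transport
      ((Algebra.TensorProduct.cancelBaseChange k k' K' K' S).symm.toRingEquiv.trans
        (Algebra.TensorProduct.comm k' K' R).toRingEquiv) h1
    exact J2Lib.isRegularRing_of_faithfullyFlat R T

variable {T : Type u} [CommRing T] [Algebra k T]

theorem isNoetherianRing_residue_tensor_of_finiteType [IsNoetherianRing T]
    (hft : Algebra.FiniteType k S ∨ Algebra.FiniteType k T) (p : Ideal S) [p.IsPrime] :
    IsNoetherianRing (p.ResidueField ⊗[k] T) := by
  obtain h | h := hft
  · have : Algebra.EssFiniteType k p.ResidueField := Algebra.EssFiniteType.comp k S p.ResidueField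
    have := Algebra.EssFiniteType.isNoetherianRing T (T ⊗[k] p.ResidueField)
    exact isNoetherianRing_of_ringEquiv _ (Algebra.TensorProduct.comm k T p.ResidueField).toRingEquiv
  · exact Algebra.FiniteType.isNoetherianRing p.ResidueField _

/-- A regular ring tensor a geometrically regular one. -/
theorem isRegularRing_tensor [IsNoetherianRing S] [IsNoetherianRing T]
    (hft : Algebra.FiniteType k S ∨ Algebra.FiniteType k T) [IsNoetherianRing (S ⊗[k] T)]
    (hS : IsRegularRing S) (hT : CAlg.IsGeometricallyRegular k T) : IsRegularRing (S ⊗[k] T) := by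
  have := hS
  refine isRegularRing_of_fibres (A := S) fun p _ => ?_
  have := isNoetherianRing_residue_tensor_of_finiteType hft p
  exact isRegularRing_transport
    (Algebra.TensorProduct.cancelBaseChange k S p.ResidueField p.ResidueField T).symm.toRingEquiv
    (isRegularRing_tensor_of_geometricallyRegular hT p.ResidueField)

/-- A normal ring tensor a geometrically normal one. -/
theorem isNormalRing_tensor [IsNoetherianRing S] [IsNoetherianRing T]
    (hft : Algebra.FiniteType k S ∨ Algebra.FiniteType k T) [IsNoetherianRing (S ⊗[k] T)]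
    (hS : EGA4.IsNormalRing S) (hT : EGA4.IsGeomNormal k T) : EGA4.IsNormalRing (S ⊗[k] T) := by
  refine isNormalRing_of_fibres (A := S) hS fun p _ => ?_
  have := isNoetherianRing_residue_tensor_of_finiteType hft p
  exact isNormalRing_of_ringEquiv
    (Algebra.TensorProduct.cancelBaseChange k S p.ResidueField p.ResidueField T).symm.toRingEquiv
    (isNormalRing_tensor_of_geomNormal hT p.ResidueField)

/-- The finite base change of a tensor product. -/
theorem base_change_tensor_setting [IsNoetherianRing S]
    (hft : Algebra.FiniteType k S ∨ Algebra.FiniteType k T) [IsNoetherianRing (S ⊗[k] T)]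
    (k' : Type u) [Field k'] [Algebra k k'] [Module.Finite k k'] :
    IsNoetherianRing (k' ⊗[k] S) ∧ IsNoetherianRing ((k' ⊗[k] S) ⊗[k] T) ∧
      (Algebra.FiniteType k (k' ⊗[k] S) ∨ Algebra.FiniteType k T) := by
  have h1 : IsNoetherianRing (k' ⊗[k] S) := isNoetherianRing_fibre_tensor
  have h2 : IsNoetherianRing (k' ⊗[k] (S ⊗[k] T)) := isNoetherianRing_fibre_tensor
  refine ⟨h1, isNoetherianRing_of_ringEquiv _
    (Algebra.TensorProduct.assoc k k k k' S T).symm.toRingEquiv, hft.imp_left fun h => ?_⟩
  have := h
  exact Algebra.FiniteType.trans (R := k) (S := k') (A := k' ⊗[k] S) inferInstance inferInstance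

end Groth.Agent.FlatAscent
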