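import Groth.Agent.FlatAscent.BaseChange
import Groth.Agent.FlatAscent.Tensor
import Groth.Agent.FormalFibre.Completion
import Groth.Agent.CohenStruct.N2

/-!
# Formal fibres of quotients; base change of regular homomorphisms
-/

universe u

namespace Groth.Agent.FlatAscent

open IsLocalRing
open scoped TensorProduct

/-- Regular homomorphisms transported along algebra isomorphisms. -/
theorem isRegularHom_congr {R S S' : Type u} [CommRing R] [CommRing S] [CommRing S'] [Algebra R S]
    [Algebra R S'] (e : S ≃ₐ[R] S') (h : CAlg.IsRegularHom R S) : CAlg.IsRegularHom R S' := by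
  have := h.1
  refine ⟨Module.Flat.of_linearEquiv e.symm.toLinearEquiv, fun p _ => ?_⟩
  obtain ⟨hN, hG⟩ := h.2 p
  let f : p.Fiber S ≃ₐ[p.ResidueField] p.Fiber S' :=
    Algebra.TensorProduct.congr (AlgEquiv.refl (R := p.ResidueField) (A₁ := p.ResidueField)) e
  refine ⟨isNoetherianRing_of_ringEquiv _ f.toRingEquiv, fun k' _ _ hk => ?_⟩
  exact isRegularRing_transport
    (Algebra.TensorProduct.congr (AlgEquiv.refl (R := k') (A₁ := k')) f).toRingEquiv (hG k' hk)

/-- Geometrically regular algebras are Noetherian. -/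
theorem isNoetherianRing_of_geometricallyRegular {k S : Type u} [Field k] [CommRing S] [Algebra k S]
    (h : CAlg.IsGeometricallyRegular k S) : IsNoetherianRing S := by
  have := h k inferInstance
  exact isNoetherianRing_of_surjective (k ⊗[k] S) S (Algebra.TensorProduct.lid k S).toRingHom
    (Algebra.TensorProduct.lid k S).surjective

/-- Geometric normality transported along algebra isomorphisms. -/
theorem isGeomNormal_congr {k S S' : Type u} [Field k] [CommRing S] [CommRing S'] [Algebra k S]
    [Algebra k S'] (f : S ≃ₐ[k] S') (h : EGA4.IsGeomNormal k S) : EGA4.IsGeomNormal k S' :=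
  fun k' _ _ hk => isNormalRing_of_ringEquiv
    (Algebra.TensorProduct.congr (AlgEquiv.refl (R := k') (A₁ := k')) f).toRingEquiv (h k' hk)

/-- The completion of a quotient is the base change of the completion. -/
theorem exists_quotient_cpl_equiv (A : Type u) [CommRing A] [IsLocalRing A] [IsNoetherianRing A]
    (I : Ideal A) [Nontrivial (A ⧸ I)] :
    Nonempty ((A ⧸ I) ⊗[A] EGA4.Cpl A ≃ₐ[A ⧸ I] EGA4.Cpl (A ⧸ I)) := by
  have key : ∀ J : Ideal (A ⧸ I), J = Ideal.jacobson ⊥ →
      Nonempty ((A ⧸ I) ⊗[A] EGA4.Cpl A ≃ₐ[A ⧸ I] AdicCompletion J (A ⧸ I)) := by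
    rintro J rfl
    refine ⟨AlgEquiv.ofBijective
      { toRingHom := FormalFibre.toJacobson A (A ⧸ I), commutes' := fun c => ?_ }
      (FormalFibre.toJacobson_bijective A (A ⧸ I))⟩
    refine AdicCompletion.ext_evalₐ fun n => ?_
    change AdicCompletion.evalₐ _ n (FormalFibre.toJacobson A (A ⧸ I) (c ⊗ₜ 1)) = _
    rw [FormalFibre.evalₐ_toJacobson, AlgHom.commutes]
    exact FormalFibre.jLevel_eq A (A ⧸ I) n _ c
      ((FormalFibre.evalLevel_tmul A (A ⧸ I) n c 1 1 (by rw [map_one, map_one])).trans
        (by rw [map_one, mul_one]))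
  exact key _ (jacobson_eq_maximalIdeal ⊥ bot_ne_top).symm

/-- Regularity of formal fibres passes to quotients. -/
theorem isRegularHom_cpl_quotient (A : Type u) [CommRing A] [IsLocalRing A] [IsNoetherianRing A]
    (hA : CAlg.IsRegularHom A (EGA4.Cpl A)) (I : Ideal A) [Nontrivial (A ⧸ I)] :
    CAlg.IsRegularHom (A ⧸ I) (EGA4.Cpl (A ⧸ I)) := by
  obtain ⟨e⟩ := exists_quotient_cpl_equiv A I
  have := CohenStruct.isNoetherianRing_completion A
  refine isRegularHom_congr e ?_
  have := hA.1
  refine ⟨inferInstance, fun P _ => ?_⟩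
  have hft : Algebra.FiniteType A (EGA4.Cpl A) ∨ Algebra.EssFiniteType A (A ⧸ I) := Or.inr inferInstance
  have h1 : CAlg.IsGeometricallyRegular P.ResidueField (P.Fiber ((A ⧸ I) ⊗[A] EGA4.Cpl A)) :=
    fun k' _ _ hk => base_change_fibre hft (fun R _ => IsRegularRing R)
      (fun _ _ _ _ e h => isRegularRing_transport e h) (fun p _ => (hA.2 p).1)
      (fun p _ L _ _ _ hN => haveI := hN; isRegularRing_tensor_of_geometricallyRegular (hA.2 p).2 L)
      P k'
  exact ⟨isNoetherianRing_of_geometricallyRegular h1, h1⟩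

/-- Normality of formal fibres passes to quotients. -/
theorem hasGeomNormalFormalFibres_quotient (A : Type u) [CommRing A] [IsLocalRing A] [IsNoetherianRing A]
    (hA : EGA4.HasGeomNormalFormalFibres A) (I : Ideal A) [Nontrivial (A ⧸ I)] :
    EGA4.HasGeomNormalFormalFibres (A ⧸ I) := by
  obtain ⟨e⟩ := exists_quotient_cpl_equiv A I
  have := CohenStruct.isNoetherianRing_completion A
  intro P _
  let f : P.Fiber ((A ⧸ I) ⊗[A] EGA4.Cpl A) ≃ₐ[P.ResidueField] EGA4.formalFibre (A ⧸ I) P :=
    Algebra.TensorProduct.congr (AlgEquiv.refl (R := P.ResidueField) (A₁ := P.ResidueField)) e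
  refine isGeomNormal_congr (S := P.Fiber ((A ⧸ I) ⊗[A] EGA4.Cpl A)) f fun k' _ _ hk => ?_
  have hft : Algebra.FiniteType A (EGA4.Cpl A) ∨ Algebra.EssFiniteType A (A ⧸ I) := Or.inr inferInstance
  exact base_change_fibre hft (fun R _ => EGA4.IsNormalRing R)
      (fun _ _ _ _ e h => isNormalRing_of_ringEquiv e h)
      (fun p _ => haveI := Algebra.EssFiniteType.isNoetherianRing (EGA4.Cpl A) (EGA4.Cpl A ⊗[A] p.ResidueField); isNoetherianRing_of_ringEquiv _ (Algebra.TensorProduct.comm A (EGA4.Cpl A) p.ResidueField).toRingEquiv)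
      (fun p _ L _ _ _ hN => haveI := hN; isNormalRing_tensor_of_geomNormal (hA p) L)
      P k'

/-- Base change of a regular homomorphism along a finite type map. -/
theorem isRegularHom_baseChange {R Λ R' : Type u} [CommRing R] [CommRing Λ] [CommRing R']
    [Algebra R Λ] [Algebra R R'] [Algebra.FiniteType R R'] (h : CAlg.IsRegularHom R Λ) :
    CAlg.IsRegularHom R' (R' ⊗[R] Λ) := by
  have := h.1
  refine ⟨inferInstance, fun P _ => ?_⟩
  have h1 : CAlg.IsGeometricallyRegular P.ResidueField (P.Fiber (R' ⊗[R] Λ)) := by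
    intro k' _ _ hk
    let : Algebra R' k' := ((algebraMap P.ResidueField k').comp (algebraMap R' P.ResidueField)).toAlgebra
    have : IsScalarTower R' P.ResidueField k' := .of_algebraMap_eq fun _ => rfl
    let : Algebra R k' := ((algebraMap R' k').comp (algebraMap R R')).toAlgebra
    have : IsScalarTower R R' k' := .of_algebraMap_eq fun _ => rfl
    let p : Ideal R := RingHom.ker (algebraMap R k')
    have : p.IsPrime := RingHom.ker_isPrime _
    let : Algebra p.ResidueField k' := (Ideal.ResidueField.lift p (algebraMap R k') le_rfl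
      fun x hx => isUnit_iff_ne_zero.mpr hx).toAlgebra
    have : IsScalarTower R p.ResidueField k' :=
      .of_algebraMap_eq fun x => (Ideal.ResidueField.lift_algebraMap ..).symm
    have : Algebra.EssFiniteType R' k' := Algebra.EssFiniteType.comp R' P.ResidueField k'
    have : Algebra.EssFiniteType R k' := Algebra.EssFiniteType.comp R R' k'
    have : Algebra.EssFiniteType p.ResidueField k' := Algebra.EssFiniteType.of_comp R p.ResidueField k'
    have := (h.2 p).1
    exact isRegularRing_transport ((Algebra.TensorProduct.cancelBaseChange R p.ResidueField k' k' Λ).toRingEquiv.trans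
      (((Algebra.TensorProduct.cancelBaseChange R R' k' k' Λ).symm.toRingEquiv).trans
        (Algebra.TensorProduct.cancelBaseChange R' P.ResidueField k' k' (R' ⊗[R] Λ)).symm.toRingEquiv))
      (isRegularRing_of_geometricallyRegular (h.2 p).2 k')
  exact ⟨isNoetherianRing_of_geometricallyRegular h1, h1⟩

end Groth.Agent.FlatAscent
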