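import Groth.Agent.FlatAscent.Fibres
import Groth.Agent.J2Lib.Descent
import Groth.Agent.HenselLib.FaithfulDescent
import Groth.Agent.DepthLib.RegularNormal

/-!
# Descent of geometric normality and regularity of fibres
-/

universe u

namespace Groth.Agent.FlatAscent

open IsLocalRing
open scoped TensorProduct

/-- Regular rings are normal. -/
theorem isNormalRing_of_isRegularRing {R : Type u} [CommRing R] [IsRegularRing R] :
    EGA4.IsNormalRing R := fun p _ =>
  ⟨DepthLib.isDomain_of_isRegularLocalRing _,
    DepthLib.isIntegrallyClosed_of_isRegularLocalRing _⟩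

/-- Normality descends along faithfully flat maps. -/
theorem isNormalRing_of_faithfullyFlat {R S : Type u} [CommRing R] [CommRing S] [Algebra R S]
    [Module.FaithfullyFlat R S] (h : EGA4.IsNormalRing S) : EGA4.IsNormalRing R := by
  intro p hp
  obtain ⟨Q, hQ⟩ := PrimeSpectrum.comap_surjective_of_faithfullyFlat (A := R) (B := S) ⟨p, hp⟩
  haveI hlie : Q.asIdeal.LiesOver p := ⟨(congrArg PrimeSpectrum.asIdeal hQ).symm⟩
  let Sq := Localization.AtPrime Q.asIdeal
  letI : Algebra (Localization.AtPrime p) Sq :=
    (Localization.localRingHom p Q.asIdeal (algebraMap R S) hlie.over).toAlgebra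
  haveI : IsScalarTower R (Localization.AtPrime p) Sq := IsScalarTower.of_algebraMap_eq fun x => by
    rw [RingHom.algebraMap_toAlgebra, Localization.localRingHom_to_map,
      ← IsScalarTower.algebraMap_apply]
  haveI : IsLocalHom (algebraMap (Localization.AtPrime p) Sq) :=
    Localization.isLocalHom_localRingHom p Q.asIdeal (algebraMap R S) hlie.over
  haveI : Module.Flat R Sq := Module.Flat.trans R S Sq
  haveI : Module.Flat (Localization.AtPrime p) Sq :=
    (Module.flat_iff_of_isLocalization (Localization.AtPrime p) p.primeCompl Sq).2 inferInstance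
  haveI := Module.FaithfullyFlat.of_flat_of_isLocalHom (A := Localization.AtPrime p) (B := Sq)
  obtain ⟨hd, hi⟩ := h Q.asIdeal
  exact ⟨HenselLib.isDomain_of_faithfullyFlat _ Sq, HenselLib.isIntegrallyClosed_of_faithfullyFlat _ Sq⟩

/-- Fibre properties descend from `C` to `B` along faithfully flat `B → C`. -/
theorem descend_base_change {A B C : Type u} [CommRing A] [CommRing B] [CommRing C] [Algebra A B]
    [Algebra B C] [Algebra A C] [IsScalarTower A B C] [Module.FaithfullyFlat B C]
    (p : Ideal A) [p.IsPrime] (k' : Type u) [Field k'] [Algebra A k']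
    [Algebra p.ResidueField k'] [IsScalarTower A p.ResidueField k']
    (P : ∀ (R : Type u) [CommRing R], Prop)
    (hP : ∀ (R R' : Type u) [CommRing R] [CommRing R'], (R ≃+* R') → P R → P R')
    (hdesc : ∀ (R T : Type u) [CommRing R] [CommRing T] [Algebra R T] [Module.FaithfullyFlat R T],
      P T → P R)
    (h : P (k' ⊗[p.ResidueField] p.Fiber C)) : P (k' ⊗[p.ResidueField] p.Fiber B) := by
  let R := B ⊗[A] k'
  let T := R ⊗[B] C
  let eR : R ≃+* k' ⊗[p.ResidueField] p.Fiber B :=
    (Algebra.TensorProduct.comm A B k').toRingEquiv.trans
      (Algebra.TensorProduct.cancelBaseChange A p.ResidueField k' k' B).symm.toRingEquiv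
  let eT : k' ⊗[p.ResidueField] p.Fiber C ≃+* T :=
    ((Algebra.TensorProduct.cancelBaseChange A p.ResidueField k' k' C).toRingEquiv.trans
      (Algebra.TensorProduct.comm A k' C).toRingEquiv).trans
      ((Algebra.TensorProduct.cancelBaseChange A B C C k').symm.toRingEquiv.trans
        (Algebra.TensorProduct.comm B C R).toRingEquiv)
  exact hP R _ eR (hdesc R T (hP _ T eT h))

end Groth.Agent.FlatAscent

namespace Groth.Agent.FlatAscent

open scoped TensorProduct

/-- Flatness of `A → B` descends from `A → C` along faithfully flat `B → C`. -/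
theorem flat_of_faithfullyFlat {A B C : Type u} [CommRing A] [CommRing B] [CommRing C] [Algebra A B]
    [Algebra B C] [Algebra A C] [IsScalarTower A B C] [Module.FaithfullyFlat B C] [Module.Flat A C] :
    Module.Flat A B := by
  rw [Module.Flat.iff_lTensor_preserves_injective_linearMap]
  intro N M _ _ _ _ f hf
  have h1 : Function.Injective (LinearMap.lTensor C f) :=
    Module.Flat.lTensor_preserves_injective_linearMap f hf
  have hcomm : ∀ z, TensorProduct.AlgebraTensorModule.cancelBaseChange A B B C M
      (LinearMap.lTensor C (f.baseChange B) z) =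
      LinearMap.lTensor C f (TensorProduct.AlgebraTensorModule.cancelBaseChange A B B C N z) := by
    intro z
    induction z using TensorProduct.induction_on with
    | zero => simp
    | add x y hx hy => simp only [map_add, hx, hy]
    | tmul c y =>
      induction y using TensorProduct.induction_on with
      | zero => simp
      | add x y hx hy => simp only [TensorProduct.tmul_add, map_add, hx, hy]
      | tmul b n => simp
  have h2 : Function.Injective (LinearMap.lTensor C (f.baseChange B)) := fun x y hxy =>
    (TensorProduct.AlgebraTensorModule.cancelBaseChange A B B C N).injective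
      (h1 (by rw [← hcomm, ← hcomm, hxy]))
  exact (Module.FaithfullyFlat.lTensor_injective_iff_injective B C (f.baseChange B)).mp h2

end Groth.Agent.FlatAscent
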