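import Groth.Agent.FlatAscent.IadicFibre

/-!
# Regular, normal and reduced fibres of `I`-adic completions
-/

universe u

namespace Groth.Agent.FlatAscent.Iadic

open IsLocalRing
open scoped TensorProduct

/-- Geometric reducedness from finite extensions. -/
theorem isGeometricallyReduced_of_finite_ext {k S : Type u} [Field k] [CommRing S] [Algebra k S]
    (h : ∀ (k' : Type u) [Field k'] [Algebra k k'], Module.Finite k k' → IsReduced (k' ⊗[k] S)) :
    Algebra.IsGeometricallyReduced k S := by
  rw [Algebra.isGeometricallyReduced_field_iff]
  suffices hs : IsReduced (S ⊗[k] AlgebraicClosure k) from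
    isReduced_of_injective _ (Algebra.TensorProduct.comm k (AlgebraicClosure k) S).injective
  refine IsReduced.tensorProduct_of_flat_of_forall_fg fun D hD => ?_
  have : Algebra.IsIntegral k D :=
    ⟨fun x => by
      rw [← isIntegral_algHom_iff D.val Subtype.val_injective]
      exact Algebra.IsIntegral.isIntegral _⟩
  let := (isField_of_isIntegral_of_isField' (Field.toIsField k) : IsField D).toField
  have : Algebra.FiniteType k D := D.fg_iff_finiteType.mp hD
  have : IsReduced (D ⊗[k] S) := h D Algebra.IsIntegral.finite
  exact isReduced_of_injective _ (Algebra.TensorProduct.comm k S D).injective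

variable (A : Type u) [CommRing A] [IsNoetherianRing A] (I : Ideal A)

theorem isRegularHom_completion
    (hA : ∀ (p : Ideal A) [p.IsPrime], CAlg.IsRegularHom (Localization.AtPrime p)
      (EGA4.Cpl (Localization.AtPrime p))) :
    CAlg.IsRegularHom A (AdicCompletion I A) := by
  refine ⟨AdicCompletion.flat_of_isNoetherian I, fun p _ => ?_⟩
  have h1 : CAlg.IsGeometricallyRegular p.ResidueField (p.Fiber (AdicCompletion I A)) := by
    intro k' _ _ hk
    refine fibre_completion I (fun R _ => IsRegularRing R)
      (fun _ _ _ _ e h => isRegularRing_transport e h) (fun R _ hR => ?_)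
      (fun R T _ _ _ _ h => haveI := h; J2Lib.isRegularRing_of_faithfullyFlat R T) (fun R _ _ h => ?_)
      (fun m _ p' _ L _ _ hL => ((hA m).2 p').2 L hL) p k'
    · have : IsNoetherianRing R := isNoetherian_of_subsingleton R R
      exact isRegularRing_iff.mpr fun Q hQ => absurd (Subsingleton.elim Q ⊤) hQ.ne_top
    · refine isRegularRing_iff.mpr fun Q hQ => ?_
      obtain ⟨R', _, _, M, _, hdis, hR'⟩ := h Q
      have := IsLocalization.isPrime_of_isPrime_disjoint M R' Q hQ hdis
      exact (PP16Lib.isRegularLocalRing_atPrime_iff M (Q.map (algebraMap R R'))).mpr inferInstance |>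
        fun h0 => by
          have key : ∀ (P : Ideal R) [P.IsPrime], P = Q → IsRegularLocalRing (Localization.AtPrime P) →
              IsRegularLocalRing (Localization.AtPrime Q) := by
            rintro P _ rfl h; exact h
          exact key _ (IsLocalization.comap_map_of_isPrime_disjoint M R' hQ hdis) h0
  exact ⟨isNoetherianRing_of_geometricallyRegular h1, h1⟩

theorem isNormalHom_completion
    (hA : ∀ (p : Ideal A) [p.IsPrime], EGA4.HasGeomNormalFormalFibres (Localization.AtPrime p)) :
    EGA4.IsNormalHom A (AdicCompletion I A) := by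
  refine ⟨AdicCompletion.flat_of_isNoetherian I, fun p _ k' _ _ hk => ?_⟩
  refine fibre_completion I (fun R _ => EGA4.IsNormalRing R)
    (fun _ _ _ _ e h => isNormalRing_of_ringEquiv e h) (fun R _ hR => ?_)
    (fun R T _ _ _ _ h => isNormalRing_of_faithfullyFlat h) (fun R _ _ h Q hQ => ?_)
    (fun m _ p' _ L _ _ hL => hA m p' L hL) p k'
  · exact fun Q hQ => absurd (Subsingleton.elim Q ⊤) hQ.ne_top
  · obtain ⟨R', _, _, M, _, hdis, hR'⟩ := h Q
    have := IsLocalization.isPrime_of_isPrime_disjoint M R' Q hQ hdis
    have := IsLocalization.isLocalization_isLocalization_atPrime_isLocalization M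
      (Localization.AtPrime (Q.map (algebraMap R R'))) (Q.map (algebraMap R R'))
    have key : ∀ (P : Ideal R) [P.IsPrime]
        [IsLocalization P.primeCompl (Localization.AtPrime (Q.map (algebraMap R R')))],
        P = Q → IsDomain (Localization.AtPrime Q) ∧ IsIntegrallyClosed (Localization.AtPrime Q) := by
      rintro P _ _ rfl
      exact normal_transport (IsLocalization.algEquiv P.primeCompl
        (Localization.AtPrime (P.map (algebraMap R R'))) (Localization.AtPrime P)).toRingEquiv (hR' _)
    exact key _ (IsLocalization.comap_map_of_isPrime_disjoint M R' hQ hdis)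

theorem isGeometricallyReduced_completion
    (hA : ∀ (p : Ideal A) [p.IsPrime], EGA4.HasGeomReducedFormalFibres (Localization.AtPrime p))
    (p : Ideal A) [p.IsPrime] :
    Algebra.IsGeometricallyReduced p.ResidueField (p.Fiber (AdicCompletion I A)) := by
  refine isGeometricallyReduced_of_finite_ext fun k' _ _ hk => ?_
  refine fibre_completion I (fun R _ => IsReduced R)
    (fun _ _ _ _ e h => haveI := h; isReduced_of_injective _ e.symm.injective)
    (fun R _ hR => ⟨fun x _ => Subsingleton.elim _ _⟩)
    (fun R T _ _ _ _ h => haveI := h; isReduced_of_injective _ (FaithfulSMul.algebraMap_injective R T))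
    (fun R _ _ h => isReduced_ofLocalizationMaximal R fun Q hQ => ?_)
    (fun m _ p' _ L _ _ hL => by
      have := hA m p'
      have : Algebra.IsAlgebraic p'.ResidueField L := Algebra.IsAlgebraic.of_finite _ _
      infer_instance) p k'
  obtain ⟨R', _, _, M, _, hdis, hR'⟩ := h Q
  let φ : R' →+* Localization.AtPrime Q := IsLocalization.lift (M := M) (g := algebraMap R _) fun y =>
    IsLocalization.map_units (Localization.AtPrime Q) (⟨y, Set.disjoint_left.mp hdis y.2⟩ : Q.primeCompl)
  let : Algebra R' (Localization.AtPrime Q) := φ.toAlgebra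
  have : IsScalarTower R R' (Localization.AtPrime Q) :=
    .of_algebraMap_eq fun x => (IsLocalization.lift_eq _ x).symm
  have hle : M ≤ Q.primeCompl := fun x hx => Set.disjoint_left.mp hdis hx
  have := IsLocalization.isLocalization_of_submonoid_le R' (Localization.AtPrime Q) M Q.primeCompl hle
  exact isReduced_localizationPreserves (Q.primeCompl.map (algebraMap R R')) (Localization.AtPrime Q) hR'

end Groth.Agent.FlatAscent.Iadic
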