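import Groth.Agent.FlatAscent.AtPrime
import Groth.Prelude.Def_Found

/-!
# Ascent from fibres; composition of regular and normal homomorphisms
-/

universe u

namespace Groth.Agent.FlatAscent

open IsLocalRing
open scoped TensorProduct

theorem isNormalRing_of_ringEquiv {A B : Type u} [CommRing A] [CommRing B] (e : A ≃+* B)
    (h : EGA4.IsNormalRing A) : EGA4.IsNormalRing B := by
  intro p _
  obtain ⟨hd, hi⟩ := h (p.comap e)
  let f : Localization.AtPrime (p.comap e) ≃+* Localization.AtPrime p :=
    IsLocalization.ringEquivOfRingEquiv (Localization.AtPrime (p.comap e)) (Localization.AtPrime p) e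
      (e.map_primeCompl_comap_eq p)
  exact ⟨f.symm.toMulEquiv.isDomain, IsIntegrallyClosed.of_equiv f⟩

/-- Fibre local rings are local rings of fibre rings. -/
theorem exists_fibre_prime {A B : Type u} [CommRing A] [CommRing B] [Algebra A B] (q : Ideal B)
    [q.IsPrime] : ∃ (Q : Ideal ((q.comap (algebraMap A B)).Fiber B)) (_ : Q.IsPrime),
      Nonempty (Localization.AtPrime Q ≃+* EGA4.FibLocRing A B q) := by
  let p := q.comap (algebraMap A B)
  obtain ⟨Q, hQ⟩ : ∃ Q : PrimeSpectrum (p.Fiber B),
      Q.asIdeal.comap Algebra.TensorProduct.includeRight = q := by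
    let e := PrimeSpectrum.preimageEquivFiber A B ⟨p, inferInstance⟩
    let x : PrimeSpectrum.comap (algebraMap A B) ⁻¹' {(⟨p, inferInstance⟩ : PrimeSpectrum A)} :=
      ⟨⟨q, inferInstance⟩, rfl⟩
    exact ⟨e x, congrArg (fun y => PrimeSpectrum.asIdeal y.1) (e.symm_apply_apply x)⟩
  refine ⟨Q.asIdeal, inferInstance, ?_⟩
  let r := Q.asIdeal.comap (Algebra.TensorProduct.includeRight : B →ₐ[A] p.Fiber B)
  have e₁ := (Ideal.Fiber.algEquivAux₂ p Q.asIdeal).toRingEquiv
  have key : ∀ (r' : Ideal B) [r'.IsPrime], r' = r → Nonempty (Localization.AtPrime Q.asIdeal ≃+*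
      Localization.AtPrime r' ⧸ (p.map (algebraMap A B)).map (algebraMap B (Localization.AtPrime r'))) := by
    rintro r' _ rfl
    exact ⟨e₁⟩
  obtain ⟨e₂⟩ := key q hQ.symm
  exact ⟨e₂.trans (Ideal.quotEquivOfEq (by rw [Ideal.map_map, ← IsScalarTower.algebraMap_eq]))⟩

variable {A B : Type u} [CommRing A] [CommRing B] [IsNoetherianRing A] [IsNoetherianRing B]
  [Algebra A B] [Module.Flat A B]

/-- A flat algebra with regular fibres over a regular ring is regular. -/
theorem isRegularRing_of_fibres [IsRegularRing A]
    (h : ∀ (p : Ideal A) [p.IsPrime], IsRegularRing (p.Fiber B)) : IsRegularRing B := by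
  refine isRegularRing_iff.mpr fun q hq => ?_
  obtain ⟨Q, _, ⟨e⟩⟩ := exists_fibre_prime (A := A) q
  have := h (q.comap (algebraMap A B))
  exact isRegularLocalRing_atPrime q inferInstance (IsRegularLocalRing.of_ringEquiv (R := Localization.AtPrime Q) e)

/-- A flat algebra with normal fibres over a normal ring is normal. -/
theorem isNormalRing_of_fibres (hA : EGA4.IsNormalRing A)
    (h : ∀ (p : Ideal A) [p.IsPrime], EGA4.IsNormalRing (p.Fiber B)) : EGA4.IsNormalRing B := by
  intro q _
  obtain ⟨hd, hi⟩ := hA (q.comap (algebraMap A B))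
  refine normal_atPrime (A := A) q fun q' _ _ => ?_
  obtain ⟨Q, _, ⟨e⟩⟩ := exists_fibre_prime (A := A) q'
  obtain ⟨hd', hi'⟩ := h (q'.comap (algebraMap A B)) Q
  exact ⟨e.symm.toMulEquiv.isDomain, IsIntegrallyClosed.of_equiv (R := Localization.AtPrime Q) e⟩

omit [IsNoetherianRing A] [IsNoetherianRing B] [Module.Flat A B] in
/-- Residue fields of `B ⊗ k'` are finite over those of `B`, for `k'` finite over a residue field. -/
theorem finite_residueField {k' : Type u} [Field k'] (p : Ideal A) [p.IsPrime] [Algebra A k']
    [Algebra p.ResidueField k'] [IsScalarTower A p.ResidueField k'] [Module.Finite p.ResidueField k']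
    (Q : Ideal (B ⊗[A] k')) [Q.IsPrime] :
    ∃ (q : Ideal B) (_ : q.IsPrime) (_ : Algebra q.ResidueField Q.ResidueField),
      IsScalarTower B q.ResidueField Q.ResidueField ∧ Module.Finite q.ResidueField Q.ResidueField := by
  let L := Q.ResidueField
  let q : Ideal B := RingHom.ker (algebraMap B L)
  have : q.IsPrime := RingHom.ker_isPrime _
  let : Algebra q.ResidueField L := (Ideal.ResidueField.lift q (algebraMap B L) le_rfl
    fun x hx => isUnit_iff_ne_zero.mpr hx).toAlgebra
  have htow : IsScalarTower B q.ResidueField L :=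
    .of_algebraMap_eq fun x => (Ideal.ResidueField.lift_algebraMap ..).symm
  refine ⟨q, inferInstance, inferInstance, htow, ?_⟩
  have : Algebra.EssFiniteType A k' := Algebra.EssFiniteType.comp A p.ResidueField k'
  have : Algebra.EssFiniteType B L := Algebra.EssFiniteType.comp B (B ⊗[A] k') L
  have : Algebra.EssFiniteType q.ResidueField L := Algebra.EssFiniteType.of_comp B q.ResidueField L
  let r : k' →+* L := (algebraMap (B ⊗[A] k') L).comp
    (Algebra.TensorProduct.includeRight : k' →ₐ[A] B ⊗[A] k').toRingHom
  have hp : p = q.comap (algebraMap A B) := by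
    ext a
    have h1 : algebraMap B L (algebraMap A B a) = r (algebraMap A k' a) := by
      change algebraMap B L (algebraMap A B a) = algebraMap (B ⊗[A] k') L ((1 : B) ⊗ₜ algebraMap A k' a)
      rw [IsScalarTower.algebraMap_apply B (B ⊗[A] k') L]
      congr 1
      rw [Algebra.TensorProduct.algebraMap_apply, Algebra.algebraMap_self_apply,
        ← mul_one (algebraMap A B a), ← Algebra.smul_def, TensorProduct.smul_tmul,
        Algebra.smul_def, mul_one]
    rw [Ideal.mem_comap, RingHom.mem_ker, h1, map_eq_zero,
      IsScalarTower.algebraMap_apply A p.ResidueField k', map_eq_zero,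
      Ideal.algebraMap_residueField_eq_zero]
  have halg : Algebra.IsAlgebraic q.ResidueField L := by
    have hk : ∀ c : k', IsIntegral q.ResidueField (r c) := by
      intro c
      let : Algebra p.ResidueField q.ResidueField :=
        (Ideal.ResidueField.map p q (algebraMap A B) hp).toAlgebra
      obtain ⟨f, hf, hf0⟩ := (Algebra.IsIntegral.isIntegral (R := p.ResidueField) c)
      have hcomp : r.comp (algebraMap p.ResidueField k') =
          (algebraMap q.ResidueField L).comp (algebraMap p.ResidueField q.ResidueField) := by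
        refine Ideal.ResidueField.ringHom_ext (RingHom.ext fun a => ?_)
        simp only [RingHom.comp_apply]
        rw [← IsScalarTower.algebraMap_apply A p.ResidueField k', RingHom.algebraMap_toAlgebra
          (Ideal.ResidueField.map p q (algebraMap A B) hp), Ideal.ResidueField.map_algebraMap,
          ← IsScalarTower.algebraMap_apply B q.ResidueField L]
        change algebraMap (B ⊗[A] k') L ((1 : B) ⊗ₜ algebraMap A k' a) = _
        rw [IsScalarTower.algebraMap_apply B (B ⊗[A] k') L]
        congr 1
        rw [Algebra.TensorProduct.algebraMap_apply, Algebra.algebraMap_self_apply,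
          ← mul_one (algebraMap A B a), ← Algebra.smul_def, TensorProduct.smul_tmul,
          Algebra.smul_def, mul_one]
      refine ⟨f.map (algebraMap p.ResidueField q.ResidueField), hf.map _, ?_⟩
      rw [Polynomial.eval₂_map, ← hcomp, ← Polynomial.hom_eval₂, hf0, map_zero]
    let E : Subalgebra q.ResidueField L := integralClosure q.ResidueField L
    have himg : ∀ x : B ⊗[A] k', algebraMap (B ⊗[A] k') L x ∈ E := by
      intro x
      induction x using TensorProduct.induction_on with
      | zero => rw [map_zero]; exact zero_mem _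
      | add x y hx hy => rw [map_add]; exact add_mem hx hy
      | tmul b c =>
        have : b ⊗ₜ[A] c = algebraMap B (B ⊗[A] k') b * ((1 : B) ⊗ₜ c) := by
          rw [Algebra.TensorProduct.algebraMap_apply, Algebra.algebraMap_self_apply,
            Algebra.TensorProduct.tmul_mul_tmul, mul_one, one_mul]
        rw [this, map_mul, ← IsScalarTower.algebraMap_apply B (B ⊗[A] k') L,
          IsScalarTower.algebraMap_apply B q.ResidueField L]
        exact mul_mem (E.algebraMap_mem _) (hk c)
    refine ⟨fun z => IsIntegral.isAlgebraic ?_⟩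
    obtain ⟨x, y, -, rfl⟩ := IsFractionRing.div_surjective (A := (B ⊗[A] k') ⧸ Q) z
    obtain ⟨x, rfl⟩ := Ideal.Quotient.mk_surjective x
    obtain ⟨y, rfl⟩ := Ideal.Quotient.mk_surjective y
    rw [div_eq_mul_inv, ← Ideal.Quotient.algebraMap_eq, ← IsScalarTower.algebraMap_apply,
      ← IsScalarTower.algebraMap_apply]
    exact IsIntegral.mul (himg x) (IsIntegral.inv (himg y))
  exact Algebra.finite_of_essFiniteType_of_isAlgebraic

section comp

variable (A B) (C : Type u) [CommRing C] [Algebra B C] [Algebra A C]
  [IsScalarTower A B C]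

omit [IsNoetherianRing A] [IsNoetherianRing B] [Module.Flat A B] in
/-- Data for composing: base change of `B → C` to `R = B ⊗ k'`. -/
theorem exists_base_change (p : Ideal A) [p.IsPrime] (k' : Type u) [Field k'] [Algebra A k']
    [Algebra p.ResidueField k'] [IsScalarTower A p.ResidueField k'] [Module.Finite p.ResidueField k']
    [Module.Flat B C] (hNB : IsNoetherianRing (k' ⊗[p.ResidueField] p.Fiber B))
    (hNC : IsNoetherianRing (k' ⊗[p.ResidueField] p.Fiber C))
    (P : ∀ (R : Type u) [CommRing R], Prop)
    (hP : ∀ (R R' : Type u) [CommRing R] [CommRing R'], (R ≃+* R') → P R → P R')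
    (hBC : ∀ (q : Ideal B) [q.IsPrime] (L : Type u) [Field L] [Algebra q.ResidueField L],
      Module.Finite q.ResidueField L → P (L ⊗[q.ResidueField] q.Fiber C))
    (hB : P (k' ⊗[p.ResidueField] p.Fiber B))
    (hasc : ∀ (R T : Type u) [CommRing R] [CommRing T] [IsNoetherianRing R] [IsNoetherianRing T]
      [Algebra R T] [Module.Flat R T], P R → (∀ (Q : Ideal R) [Q.IsPrime], P (Q.Fiber T)) → P T) :
    P (k' ⊗[p.ResidueField] p.Fiber C) := by
  let R := B ⊗[A] k'
  let T := R ⊗[B] C
  let eR : k' ⊗[p.ResidueField] p.Fiber B ≃+* R :=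
    ((Algebra.TensorProduct.cancelBaseChange A p.ResidueField k' k' B).toRingEquiv).trans
      (Algebra.TensorProduct.comm A k' B).toRingEquiv
  let eT : T ≃+* k' ⊗[p.ResidueField] p.Fiber C :=
    ((Algebra.TensorProduct.comm B R C).toRingEquiv.trans
      (Algebra.TensorProduct.cancelBaseChange A B C C k').toRingEquiv).trans
      ((Algebra.TensorProduct.comm A C k').toRingEquiv.trans
        (Algebra.TensorProduct.cancelBaseChange A p.ResidueField k' k' C).symm.toRingEquiv)
  have : IsNoetherianRing R := isNoetherianRing_of_ringEquiv _ eR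
  have : IsNoetherianRing T := isNoetherianRing_of_ringEquiv _ eT.symm
  refine hP T _ eT (hasc R T (hP _ R eR hB) fun Q _ => ?_)
  obtain ⟨q, _, _, htow, hfin⟩ := finite_residueField (B := B) p Q
  have h1 := hBC q Q.ResidueField hfin
  exact hP _ _ ((Algebra.TensorProduct.cancelBaseChange B q.ResidueField Q.ResidueField
    Q.ResidueField C).toRingEquiv.trans
      (Algebra.TensorProduct.cancelBaseChange B R Q.ResidueField Q.ResidueField C).symm.toRingEquiv) h1

omit [IsNoetherianRing A] [IsNoetherianRing B] [Module.Flat A B] in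
/-- Fibres stay Noetherian after a finite field extension. -/
theorem isNoetherianRing_fibre_tensor {k S k' : Type u} [Field k] [CommRing S] [Algebra k S]
    [IsNoetherianRing S] [Field k'] [Algebra k k'] [Module.Finite k k'] :
    IsNoetherianRing (k' ⊗[k] S) := by
  have : IsNoetherianRing (S ⊗[k] k') := IsNoetherianRing.of_finite S (S ⊗[k] k')
  exact isNoetherianRing_of_ringEquiv (S ⊗[k] k') (Algebra.TensorProduct.comm k S k').toRingEquiv

omit [IsNoetherianRing A] [Module.Flat A B] in
/-- Composites of normal homomorphisms are normal. -/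
theorem isNormalHom_comp [IsNoetherianRing C] (hAB : EGA4.IsNormalHom A B) (hBC : EGA4.IsNormalHom B C) :
    EGA4.IsNormalHom A C := by
  have := hBC.1
  have := hAB.1
  refine ⟨Module.Flat.trans A B C, fun p _ k' _ _ hfin => ?_⟩
  let : Algebra A k' := ((algebraMap p.ResidueField k').comp (algebraMap A p.ResidueField)).toAlgebra
  have : IsScalarTower A p.ResidueField k' := .of_algebraMap_eq fun _ => rfl
  have : Algebra.EssFiniteType A k' := Algebra.EssFiniteType.comp A p.ResidueField k'
  have hn : ∀ (D : Type u) [CommRing D] [Algebra A D] [IsNoetherianRing D],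
      IsNoetherianRing (k' ⊗[p.ResidueField] p.Fiber D) := fun D _ _ _ => by
    have : IsNoetherianRing (p.Fiber D) := by
      have := Algebra.EssFiniteType.isNoetherianRing D (D ⊗[A] p.ResidueField)
      exact isNoetherianRing_of_ringEquiv (D ⊗[A] p.ResidueField)
        (Algebra.TensorProduct.comm A D p.ResidueField).toRingEquiv
    exact isNoetherianRing_fibre_tensor
  exact exists_base_change A B C p k' (hn B) (hn C) (fun R _ => EGA4.IsNormalRing R)
    (fun _ _ _ _ e h => isNormalRing_of_ringEquiv e h)
    (fun q _ L _ _ hL => hBC.2 q L hL) (hAB.2 p k' hfin)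
    (fun R T _ _ _ _ _ _ hR hT => isNormalRing_of_fibres hR hT)

omit [IsNoetherianRing A] [IsNoetherianRing B] [Module.Flat A B] in
/-- Composites of regular homomorphisms have geometrically regular fibres. -/
theorem isGeometricallyRegular_comp (hAB : CAlg.IsRegularHom A B) (hBC : CAlg.IsRegularHom B C)
    (p : Ideal A) [p.IsPrime] (hN : IsNoetherianRing (p.Fiber C)) :
    CAlg.IsGeometricallyRegular p.ResidueField (p.Fiber C) := by
  have := hBC.1
  intro k' _ _ hfin
  let : Algebra A k' := ((algebraMap p.ResidueField k').comp (algebraMap A p.ResidueField)).toAlgebra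
  have : IsScalarTower A p.ResidueField k' := .of_algebraMap_eq fun _ => rfl
  have := (hAB.2 p).1
  exact exists_base_change A B C p k' isNoetherianRing_fibre_tensor isNoetherianRing_fibre_tensor
    (fun R _ => IsRegularRing R)
    (fun _ _ _ _ e h => haveI := h; IsRegularRing.of_ringEquiv e)
    (fun q _ L _ _ hL => (hBC.2 q).2 L hL) ((hAB.2 p).2 k' hfin)
    (fun R T _ _ _ _ _ _ hR hT => haveI := hR; isRegularRing_of_fibres hT)

end comp

end Groth.Agent.FlatAscent
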