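import Mathlib.LinearAlgebra.TensorProduct.DirectLimit
import Mathlib.RingTheory.Flat.EquationalCriterion

/-!
# Tensor products and flatness for abstract colimits of modules
-/

universe u

namespace Groth.Agent.FlatAscent

open scoped TensorProduct

variable {R : Type u} [CommRing R] {ι : Type u} [Preorder ι] [IsDirectedOrder ι] [Nonempty ι]
  {G : ι → Type u} [∀ i, AddCommGroup (G i)] [∀ i, Module R (G i)]
  (f : ∀ i j, i ≤ j → G i →ₗ[R] G j) {N : Type u} [AddCommGroup N] [Module R N]
  (g : ∀ i, G i →ₗ[R] N)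

section

variable [DirectedSystem G fun i j h => f i j h]

omit [DirectedSystem G fun i j h => f i j h] in
/-- Tensoring a colimit: surjectivity. -/
theorem exists_tensor_lift (hg : ∀ i j (h : i ≤ j) x, g j (f i j h x) = g i x)
    (hsurj : ∀ a : N, ∃ i x, g i x = a) (M : Type u) [AddCommGroup M] [Module R M] (z : M ⊗[R] N) :
    ∃ i x, (g i).lTensor M x = z := by
  induction z using TensorProduct.induction_on with
  | zero => exact ⟨Classical.arbitrary ι, 0, map_zero _⟩
  | tmul m n =>
    obtain ⟨i, x, rfl⟩ := hsurj n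
    exact ⟨i, m ⊗ₜ x, rfl⟩
  | add a b ha hb =>
    obtain ⟨i, x, rfl⟩ := ha
    obtain ⟨j, y, rfl⟩ := hb
    obtain ⟨k, hik, hjk⟩ := exists_ge_ge i j
    refine ⟨k, (f i k hik).lTensor M x + (f j k hjk).lTensor M y, ?_⟩
    have e : ∀ i (h : i ≤ k), (g k).comp (f i k h) = g i := fun i h => LinearMap.ext (hg i k h)
    rw [map_add, ← LinearMap.lTensor_comp_apply, ← LinearMap.lTensor_comp_apply, e, e]

/-- Tensoring a colimit: kernels die. -/
theorem exists_tensor_eq_zero (hg : ∀ i j (h : i ≤ j) x, g j (f i j h x) = g i x)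
    (hsurj : ∀ a : N, ∃ i x, g i x = a) (hker : ∀ i x, g i x = 0 → ∃ j, ∃ h : i ≤ j, f i j h x = 0)
    (M : Type u) [AddCommGroup M] [Module R M] (i : ι) (z : M ⊗[R] G i)
    (hz : (g i).lTensor M z = 0) : ∃ j, ∃ h : i ≤ j, (f i j h).lTensor M z = 0 := by
  classical
  let L := Module.DirectLimit G f
  let e₀ : L →ₗ[R] N := Module.DirectLimit.lift R ι G f g hg
  have hinj : Function.Injective e₀ := by
    refine (injective_iff_map_eq_zero e₀).mpr fun x hx => ?_
    obtain ⟨j, y, rfl⟩ := Module.DirectLimit.exists_of x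
    rw [Module.DirectLimit.lift_of] at hx
    obtain ⟨k, hjk, hk⟩ := hker j y hx
    rw [← Module.DirectLimit.of_f (hij := hjk), hk, map_zero]
  have hsu : Function.Surjective e₀ := fun n => by
    obtain ⟨j, y, rfl⟩ := hsurj n
    exact ⟨Module.DirectLimit.of R ι G f j y, Module.DirectLimit.lift_of g hg _⟩
  let e := LinearEquiv.ofBijective e₀ ⟨hinj, hsu⟩
  have h1 : (Module.DirectLimit.of R ι G f i).lTensor M z = 0 := by
    refine (e.lTensor M).injective ?_
    rw [map_zero, ← hz]
    change (e₀.lTensor M) ((Module.DirectLimit.of R ι G f i).lTensor M z) = _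
    rw [← LinearMap.lTensor_comp_apply]
    congr 2
    exact LinearMap.ext fun x => Module.DirectLimit.lift_of g hg _
  have h2 : ∀ w : M ⊗[R] G i, TensorProduct.directLimitRight f M
      ((Module.DirectLimit.of R ι G f i).lTensor M w) =
      Module.DirectLimit.of R ι (M ⊗[R] G ·) (fun a b h => (f a b h).lTensor M) i w := by
    intro w
    induction w using TensorProduct.induction_on with
    | zero => simp
    | tmul m x => simp
    | add a b ha hb => simp only [map_add, ha, hb]
  have h3 := h2 z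
  rw [h1, map_zero] at h3
  obtain ⟨j, hij, hj⟩ := Module.DirectLimit.of.zero_exact h3.symm
  exact ⟨j, hij, hj⟩

end

/-- A colimit of flat modules is flat. -/
theorem flat_of_colimit (hg : ∀ i j (h : i ≤ j) x, g j (f i j h x) = g i x)
    (hsurj : ∀ a : N, ∃ i x, g i x = a) (hker : ∀ i x, g i x = 0 → ∃ j, ∃ h : i ≤ j, f i j h x = 0)
    (hflat : ∀ i, Module.Flat R (G i)) : Module.Flat R N := by
  classical
  refine Module.Flat.iff_forall_isTrivialRelation.mpr fun {l r n} hrel => ?_
  choose a x hx using fun t => hsurj (n t)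
  obtain ⟨i, hi⟩ := Finite.exists_le a
  let y : Fin l → G i := fun t => f (a t) i (hi t) (x t)
  have hy : g i (∑ t, r t • y t) = 0 := by simp [map_sum, map_smul, y, hg, hx, hrel]
  obtain ⟨j, hij, hj⟩ := hker _ _ hy
  simp only [map_sum, map_smul] at hj
  obtain ⟨k, c, w, hw, hc⟩ := Module.Flat.iff_forall_isTrivialRelation.mp (hflat j) hj
  refine ⟨k, c, fun t => g j (w t), fun t => ?_, hc⟩
  rw [← hx t, ← hg _ i (hi t), ← hg i j hij]
  change g j (f i j hij (y t)) = _
  rw [show f i j hij (y t) = _ from hw t, map_sum]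
  simp [map_smul]

end Groth.Agent.FlatAscent
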