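import Groth.Agent.FlatAscent.SepExt
import Mathlib.RingTheory.Polynomial.IsIntegral
import Mathlib.RingTheory.Localization.LocalizationLocalization

/-!
# Permanence properties of normal rings: products, localizations, polynomials, colimits
-/

universe u

namespace Groth.Agent.FlatAscent

open IsLocalRing

/-- A normal local property transported along an equivalence of local rings. -/
theorem normal_transport {R S : Type u} [CommRing R] [CommRing S] (e : R ≃+* S)
    (h : IsDomain R ∧ IsIntegrallyClosed R) : IsDomain S ∧ IsIntegrallyClosed S :=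
  haveI := h.1
  haveI := h.2
  ⟨e.symm.toMulEquiv.isDomain, IsIntegrallyClosed.of_equiv e⟩

/-- A localization of a normal ring is normal. -/
theorem isNormalRing_of_isLocalization {R S : Type u} [CommRing R] [CommRing S] [Algebra R S]
    (M : Submonoid R) [IsLocalization M S] (h : EGA4.IsNormalRing R) : EGA4.IsNormalRing S := by
  intro Q _
  have := IsLocalization.isLocalization_isLocalization_atPrime_isLocalization M (Localization.AtPrime Q) Q
  exact normal_transport (IsLocalization.algEquiv (Q.comap (algebraMap R S)).primeCompl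
    (Localization.AtPrime (Q.comap (algebraMap R S))) (Localization.AtPrime Q)).toRingEquiv (h _)

/-- A finite product of normal rings is normal. -/
theorem isNormalRing_pi {ι : Type u} [Finite ι] (A : ι → Type u) [∀ i, CommRing (A i)]
    (hA : ∀ i, EGA4.IsNormalRing (A i)) : EGA4.IsNormalRing (∀ i, A i) := by
  classical
  intro p _
  obtain ⟨i, hi⟩ : ∃ i, Pi.single (M := A) i 1 ∉ p := by
    by_contra! h
    cases nonempty_fintype ι
    exact (Ideal.IsPrime.ne_top ‹_›) ((Ideal.eq_top_iff_one p).mpr
      (Finset.univ_sum_single (1 : ∀ i, A i) ▸ sum_mem fun i _ => h i))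
  let π := Pi.evalRingHom A i
  let : Algebra (∀ i, A i) (A i) := π.toAlgebra
  have hs : Function.Surjective (algebraMap (∀ i, A i) (A i)) := fun x => ⟨Pi.single i x, by
    simp [RingHom.algebraMap_toAlgebra, π]⟩
  have : Module.Flat (∀ i, A i) (A i) :=
    Module.Flat.of_retract (M := ∀ i, A i)
      { toFun := Pi.single (M := A) i
        map_add' := fun x y => Pi.single_add i x y
        map_smul' := fun r x => by
          ext j
          rcases eq_or_ne j i with rfl | hj
          · simp [Algebra.smul_def, RingHom.algebraMap_toAlgebra, π]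
          · simp [hj] }
      { toFun := π
        map_add' := fun x y => rfl
        map_smul' := fun r x => by simp [Algebra.smul_def, RingHom.algebraMap_toAlgebra, π] }
      (LinearMap.ext fun x => by simp [π])
  let Q := p.map (algebraMap (∀ i, A i) (A i))
  have hker : RingHom.ker (algebraMap (∀ i, A i) (A i)) ≤ p := fun x hx => by
    have h0 : Pi.single (M := A) i 1 * x = 0 := by
      ext j
      rcases eq_or_ne j i with rfl | hj
      · have h1 : π x = 0 := RingHom.mem_ker.mp hx
        simpa [π] using h1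
      · simp [hj]
    exact (Ideal.IsPrime.mem_or_mem ‹_› (h0 ▸ p.zero_mem)).resolve_left hi
  have : Q.IsPrime := Ideal.map_isPrime_of_surjective hs hker
  have hQ : Q.comap (algebraMap (∀ i, A i) (A i)) = p := by
    rw [Ideal.comap_map_of_surjective _ hs]
    exact sup_eq_left.mpr hker
  obtain ⟨e⟩ := nonempty_localization_equiv_of_flat_surjective hs Q
  have key : ∀ (P : Ideal (∀ i, A i)) [P.IsPrime], P = p →
      Nonempty (Localization.AtPrime P ≃+* Localization.AtPrime p) := by
    rintro P _ rfl; exact ⟨RingEquiv.refl _⟩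
  obtain ⟨e'⟩ := key _ hQ
  exact normal_transport (e.symm.trans e') (hA i Q)

/-- A polynomial ring over a normal ring is normal. -/
theorem isNormalRing_polynomial {R : Type u} [CommRing R] (h : EGA4.IsNormalRing R) :
    EGA4.IsNormalRing (Polynomial R) := by
  intro Q _
  let p := Q.comap (Polynomial.C : R →+* Polynomial R)
  let Rp := Localization.AtPrime p
  obtain ⟨hd, hi⟩ := h p
  let M : Submonoid (Polynomial R) := p.primeCompl.map (Polynomial.C : R →+* Polynomial R)
  let : Algebra (Polynomial R) (Polynomial Rp) := (Polynomial.mapRingHom (algebraMap R Rp)).toAlgebra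
  have : IsLocalization M (Polynomial Rp) := Polynomial.isLocalization p.primeCompl Rp
  have hdis : Disjoint (M : Set (Polynomial R)) Q := Set.disjoint_left.mpr fun x hx hxQ => by
    obtain ⟨r, hr, rfl⟩ := hx
    exact hr hxQ
  let Q' := Q.map (algebraMap (Polynomial R) (Polynomial Rp))
  have : Q'.IsPrime := IsLocalization.isPrime_of_isPrime_disjoint M _ Q ‹_› hdis
  have hQ' : Q'.comap (algebraMap (Polynomial R) (Polynomial Rp)) = Q :=
    IsLocalization.comap_map_of_isPrime_disjoint M _ ‹_› hdis
  have := IsLocalization.isLocalization_isLocalization_atPrime_isLocalization M (Localization.AtPrime Q') Q'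
  have key : ∀ (P : Ideal (Polynomial R)) [P.IsPrime]
      [IsLocalization P.primeCompl (Localization.AtPrime Q')], P = Q →
      Nonempty (Localization.AtPrime Q' ≃+* Localization.AtPrime Q) := by
    rintro P _ _ rfl
    exact ⟨(IsLocalization.algEquiv P.primeCompl (Localization.AtPrime Q') (Localization.AtPrime P)).toRingEquiv⟩
  obtain ⟨e⟩ := key _ hQ'
  have hle : Q'.primeCompl ≤ nonZeroDivisors (Polynomial Rp) := Q'.primeCompl_le_nonZeroDivisors
  have : IsDomain (Localization.AtPrime Q') := IsLocalization.isDomain_localization hle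
  refine normal_transport (R := Localization.AtPrime Q') e ?_
  exact ⟨inferInstance,
      isIntegrallyClosed_of_isLocalization _ Q'.primeCompl hle⟩

section Colimit

open Polynomial in
/-- A filtered colimit of integrally closed domains is an integrally closed domain. -/
theorem isIntegrallyClosed_of_colimit {ι : Type u} [Preorder ι] [IsDirectedOrder ι] [Nonempty ι]
    {H : ι → Type u} [∀ i, CommRing (H i)] (φ : ∀ i j, i ≤ j → H i →+* H j) {B : Type u} [CommRing B]
    [Nontrivial B] (h : ∀ i, H i →+* B)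
    (hh : ∀ i j (hij : i ≤ j) x, h j (φ i j hij x) = h i x)
    (hsurj : ∀ b : B, ∃ i x, h i x = b)
    (hker : ∀ i x, h i x = 0 → ∃ j, ∃ hij : i ≤ j, φ i j hij x = 0)
    (hd : ∀ i, IsDomain (H i)) (hc : ∀ i, IsIntegrallyClosed (H i)) :
    IsDomain B ∧ IsIntegrallyClosed B := by
  classical
  have lift₂ : ∀ a b : B, ∃ (i : ι) (x y : H i), h i x = a ∧ h i y = b := fun a b => by
    obtain ⟨i, x, rfl⟩ := hsurj a
    obtain ⟨j, y, rfl⟩ := hsurj b
    obtain ⟨k, h1, h2⟩ := exists_ge_ge i j
    exact ⟨k, φ i k h1 x, φ j k h2 y, hh .., hh ..⟩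
  have : NoZeroDivisors B := ⟨fun {a b} hab => by
    obtain ⟨i, x, y, rfl, rfl⟩ := lift₂ a b
    rw [← map_mul] at hab
    obtain ⟨j, hij, hj⟩ := hker i _ hab
    have := hd j
    rw [map_mul, mul_eq_zero] at hj
    exact hj.imp (fun h0 => by rw [← hh i j hij, h0, map_zero]) fun h0 => by rw [← hh i j hij, h0, map_zero]⟩
  have : IsDomain B := NoZeroDivisors.to_isDomain B
  refine ⟨this, (isIntegrallyClosed_iff (FractionRing B)).mpr fun {x} hx => ?_⟩
  obtain ⟨P, hPm, hP⟩ := hx
  obtain ⟨a, b, hb, rfl⟩ := IsFractionRing.div_surjective (A := B) x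
  -- lift the coefficients
  have hlifts : ∀ s : Finset B, ∃ i, ∀ c ∈ s, c ∈ Set.range (h i) := by
    intro s
    induction s using Finset.induction with
    | empty => exact ⟨Classical.arbitrary ι, fun c hc => absurd hc (Finset.notMem_empty c)⟩
    | insert c s _ ih =>
      obtain ⟨i, hi⟩ := ih
      obtain ⟨j, y, hy⟩ := hsurj c
      obtain ⟨k, h1, h2⟩ := exists_ge_ge i j
      refine ⟨k, fun d hd => (Finset.mem_insert.mp hd).elim
        (fun e => ⟨φ j k h2 y, by rw [hh, hy, e]⟩) fun hd' => ?_⟩
      obtain ⟨z, rfl⟩ := hi d hd'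
      exact ⟨φ i k h1 z, hh ..⟩
  obtain ⟨i, hi⟩ := hlifts (P.coeffs ∪ {a, b, 0, 1})
  obtain ⟨a', rfl⟩ := hi a (by simp)
  obtain ⟨b', rfl⟩ := hi b (by simp)
  have hPl : P ∈ Polynomial.lifts (h i) := (lifts_iff_coeff_lifts P).mpr fun n => by
    by_cases hn : P.coeff n = 0
    · exact hn ▸ hi 0 (by simp)
    · exact hi _ (Finset.mem_union_left _ (coeff_mem_coeffs hn))
  have := hd i
  obtain ⟨P', hP', hdeg, hP'm⟩ := lifts_and_degree_eq_and_monic hPl hPm
  have h1 : h i ((P'.scaleRoots b').eval a') = 0 := by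
    apply IsFractionRing.injective B (FractionRing B)
    rw [map_zero, ← eval₂_at_apply, ← eval_map, map_scaleRoots _ _ _ (by
      rw [hP'm.leadingCoeff, map_one]; exact one_ne_zero), hP', ← eval₂_at_apply]
    have hbK : algebraMap B (FractionRing B) (h i b') ≠ 0 := IsFractionRing.to_map_ne_zero_of_mem_nonZeroDivisors hb
    calc _ = eval₂ (algebraMap B (FractionRing B))
          (algebraMap B (FractionRing B) (h i b') *
            (algebraMap B (FractionRing B) (h i a') / algebraMap B (FractionRing B) (h i b')))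
          (P.scaleRoots (h i b')) := by rw [mul_div_cancel₀ _ hbK]
      _ = 0 := scaleRoots_eval₂_eq_zero _ hP
  obtain ⟨j, hij, hj⟩ := hker i _ h1
  have := hd j
  have := hc j
  let b₁ := φ i j hij b'
  let a₁ := φ i j hij a'
  have hb₁ : b₁ ≠ 0 := fun h0 => nonZeroDivisors.ne_zero hb (by rw [← hh i j hij, show φ i j hij b' = 0 from h0, map_zero])
  have hK : algebraMap (H j) (FractionRing (H j)) b₁ ≠ 0 :=
    (map_ne_zero_iff _ (IsFractionRing.injective _ _)).mpr hb₁
  have hint : IsIntegral (H j) (algebraMap (H j) (FractionRing (H j)) a₁ / algebraMap (H j) (FractionRing (H j)) b₁) := by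
    refine ⟨P'.map (φ i j hij), hP'm.map _, ?_⟩
    have hne : φ i j hij P'.leadingCoeff ≠ 0 := by rw [hP'm.leadingCoeff, map_one]; exact one_ne_zero
    have h2 : ((P'.map (φ i j hij)).scaleRoots b₁).eval a₁ = 0 := by
      rw [← map_scaleRoots _ _ _ hne, eval_map, eval₂_at_apply]; exact hj
    have h3 := scaleRoots_eval₂_mul (p := P'.map (φ i j hij)) (algebraMap (H j) (FractionRing (H j)))
      (algebraMap (H j) (FractionRing (H j)) a₁ / algebraMap (H j) (FractionRing (H j)) b₁) b₁
    rw [mul_div_cancel₀ _ hK, eval₂_at_apply, h2, map_zero] at h3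
    exact (mul_eq_zero.mp h3.symm).resolve_left (pow_ne_zero _ hK)
  obtain ⟨y, hy⟩ := (isIntegrallyClosed_iff (FractionRing (H j))).mp (hc j) hint
  refine ⟨h j y, ?_⟩
  have h4 : y * b₁ = a₁ := IsFractionRing.injective (H j) (FractionRing (H j)) (by
    rw [map_mul, hy, div_mul_cancel₀ _ hK])
  rw [eq_div_iff (IsFractionRing.to_map_ne_zero_of_mem_nonZeroDivisors hb), ← map_mul, ← hh i j hij a',
    ← hh i j hij b', ← map_mul, h4]

variable {ι : Type u} [Preorder ι] [IsDirectedOrder ι] [Nonempty ι]
  {G : ι → Type u} [∀ i, CommRing (G i)] (f : ∀ i j, i ≤ j → G i →+* G j)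
  {A : Type u} [CommRing A] (g : ∀ i, G i →+* A)

/-- A filtered colimit of normal rings is normal. -/
theorem isNormalRing_of_colimit (hg : ∀ i j (h : i ≤ j) x, g j (f i j h x) = g i x)
    (hcomp : ∀ i j k (h₁ : i ≤ j) (h₂ : j ≤ k) x, f j k h₂ (f i j h₁ x) = f i k (h₁.trans h₂) x)
    (hsurj : ∀ a : A, ∃ i x, g i x = a)
    (hker : ∀ i x, g i x = 0 → ∃ j, ∃ h : i ≤ j, f i j h x = 0)
    (hG : ∀ i, EGA4.IsNormalRing (G i)) : EGA4.IsNormalRing A := by
  intro P _
  let p := fun i => P.comap (g i)
  have hp : ∀ i j (h : i ≤ j), p i = (p j).comap (f i j h) := fun i j h => by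
    ext x; simp [p, hg]
  refine isIntegrallyClosed_of_colimit (H := fun i => Localization.AtPrime (p i))
    (fun i j h => Localization.localRingHom (p i) (p j) (f i j h) (hp i j h))
    (fun i => Localization.localRingHom (p i) P (g i) rfl) (fun i j h x => ?_) (fun b => ?_)
    (fun i x hx => ?_) (fun i => (hG i (p i)).1) fun i => (hG i (p i)).2
  · obtain ⟨⟨a, s⟩, rfl⟩ := IsLocalization.mk'_surjective (p i).primeCompl x
    simp only [Localization.localRingHom_mk', hg]
  · obtain ⟨⟨a, s⟩, rfl⟩ := IsLocalization.mk'_surjective P.primeCompl b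
    obtain ⟨i, a', rfl⟩ := hsurj a
    obtain ⟨j, s', hs'⟩ := hsurj s
    obtain ⟨k, hik, hjk⟩ := exists_ge_ge i j
    have hmem : f j k hjk s' ∈ (p k).primeCompl := fun h => s.2 (by
      have : g k (f j k hjk s') ∈ P := h
      rwa [hg, hs'] at this)
    refine ⟨k, IsLocalization.mk' _ (f i k hik a') ⟨f j k hjk s', hmem⟩, ?_⟩
    rw [Localization.localRingHom_mk']
    congr 1
    · exact hg ..
    · exact Subtype.ext (by simp [hg, hs'])
  · obtain ⟨⟨a, s⟩, rfl⟩ := IsLocalization.mk'_surjective (p i).primeCompl x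
    rw [Localization.localRingHom_mk', IsLocalization.mk'_eq_zero_iff] at hx
    obtain ⟨⟨u, hu⟩, hu0⟩ := hx
    obtain ⟨j, u', rfl⟩ := hsurj u
    obtain ⟨k, hik, hjk⟩ := exists_ge_ge i j
    have h1 : g k (f j k hjk u' * f i k hik a) = 0 := by rw [map_mul, hg, hg]; exact hu0
    obtain ⟨l, hkl, hl⟩ := hker k _ h1
    refine ⟨l, hik.trans hkl, ?_⟩
    rw [map_mul] at hl
    have hmem : f k l hkl (f j k hjk u') ∈ (p l).primeCompl := fun h => hu (by
      have : g l (f k l hkl (f j k hjk u')) ∈ P := h
      rwa [hg, hg] at this)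
    rw [Localization.localRingHom_mk', IsLocalization.mk'_eq_zero_iff]
    exact ⟨⟨_, hmem⟩, by rwa [hcomp i k l hik hkl] at hl⟩

end Colimit

end Groth.Agent.FlatAscent
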