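import Groth.Agent.FlatAscent.QuotientFibre
import Groth.Agent.FlatAscent.NormalLocal
import Groth.Agent.Catenary.EssFT
import Groth.Agent.TopFT.RPowBasic
import Groth.Agent.S0543

/-!
# Fibres of `A → Â` for an `I`-adic completion
-/

universe u

namespace Groth.Agent.FlatAscent.Iadic

open IsLocalRing
open scoped TensorProduct

/-- Completions agree when all the levels agree. -/
theorem exists_completion_equiv {C D : Type u} [CommRing C] [CommRing D] (I : Ideal C) (J : Ideal D)
    (f : C →+* D) (θ : ∀ k, C ⧸ I ^ k ≃+* D ⧸ J ^ k)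
    (hθ : ∀ k c, θ k (Ideal.Quotient.mk _ c) = Ideal.Quotient.mk _ (f c)) :
    ∃ e : AdicCompletion I C ≃+* AdicCompletion J D,
      ∀ c, e (algebraMap C _ c) = algebraMap D _ (f c) := by
  have hfac : ∀ {m n : ℕ} (h : m ≤ n) z,
      Ideal.Quotient.factorPow J h (θ n z) = θ m (Ideal.Quotient.factorPow I h z) := fun {m n} h z => by
    obtain ⟨c, rfl⟩ := Ideal.Quotient.mk_surjective z
    rw [hθ, Ideal.Quotient.factorPow, Ideal.Quotient.factor_mk, Ideal.Quotient.factor_mk, hθ]
  let φ : AdicCompletion I C →+* AdicCompletion J D :=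
    AdicCompletion.liftRingHom J
      (fun n => (θ n).toRingHom.comp (AdicCompletion.evalₐ I n).toRingHom) fun {m n} h =>
      RingHom.ext fun x => by
        change Ideal.Quotient.factorPow J h (θ n (AdicCompletion.evalₐ I n x)) =
          θ m (AdicCompletion.evalₐ I m x)
        rw [hfac, Ideal.Quotient.factorPow, FormalFibre.factor_evalₐ I h]
  let ψ : AdicCompletion J D →+* AdicCompletion I C :=
    AdicCompletion.liftRingHom I
      (fun n => (θ n).symm.toRingHom.comp (AdicCompletion.evalₐ J n).toRingHom) fun {m n} h =>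
      RingHom.ext fun x => by
        apply (θ m).injective
        change θ m (Ideal.Quotient.factorPow I h ((θ n).symm (AdicCompletion.evalₐ J n x))) =
          θ m ((θ m).symm (AdicCompletion.evalₐ J m x))
        rw [← hfac, RingEquiv.apply_symm_apply, RingEquiv.apply_symm_apply,
          Ideal.Quotient.factorPow, FormalFibre.factor_evalₐ J h]
  have h1 : ∀ n x, AdicCompletion.evalₐ J n (φ x) = θ n (AdicCompletion.evalₐ I n x) := fun n x =>
    AdicCompletion.evalₐ_liftRingHom J _ _ n x
  have h2 : ∀ n x, AdicCompletion.evalₐ I n (ψ x) = (θ n).symm (AdicCompletion.evalₐ J n x) := fun n x =>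
    AdicCompletion.evalₐ_liftRingHom I _ _ n x
  refine ⟨RingEquiv.ofRingHom φ ψ
    (RingHom.ext fun x => AdicCompletion.ext_evalₐ fun n => by
      rw [RingHom.comp_apply, h1, h2, RingEquiv.apply_symm_apply, RingHom.id_apply])
    (RingHom.ext fun x => AdicCompletion.ext_evalₐ fun n => by
      rw [RingHom.comp_apply, h2, h1, RingEquiv.symm_apply_apply, RingHom.id_apply]),
    fun c => AdicCompletion.ext_evalₐ fun n => ?_⟩
  change AdicCompletion.evalₐ J n (φ (algebraMap C _ c)) = _
  rw [h1, AlgHom.commutes, AlgHom.commutes]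
  exact hθ n c

variable {A : Type u} [CommRing A] [IsNoetherianRing A] (I : Ideal A)

/-- The levels of an `I`-adic completion at an ideal containing `I`. -/
theorem bijective_level {m : Ideal A} (hIm : I ≤ m) (k : ℕ) :
    Function.Bijective (Ideal.quotientMap ((m ^ k).map (algebraMap A (AdicCompletion I A)))
      (algebraMap A (AdicCompletion I A)) (Ideal.le_comap_map (I := m ^ k))) := by
  constructor
  · refine Ideal.quotientMap_injective' ?_
    intro a (ha : algebraMap A (AdicCompletion I A) a ∈ (m ^ k).map (algebraMap A (AdicCompletion I A)))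
    have h1 := Ideal.mem_map_of_mem (AdicCompletion.evalₐ I k).toRingHom ha
    rw [Ideal.map_map] at h1
    change AdicCompletion.evalₐ I k (algebraMap A _ a) ∈ _ at h1
    rw [AlgHom.commutes, show (AdicCompletion.evalₐ I k).toRingHom.comp
      (algebraMap A (AdicCompletion I A)) = Ideal.Quotient.mk (I ^ k) from
        RingHom.ext fun x => (AdicCompletion.evalₐ I k).commutes x] at h1
    have h2 : a ∈ ((m ^ k).map (Ideal.Quotient.mk (I ^ k))).comap (Ideal.Quotient.mk (I ^ k)) := h1
    rwa [Ideal.comap_map_of_surjective' _ Ideal.Quotient.mk_surjective, Ideal.mk_ker,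
      sup_eq_left.mpr (Ideal.pow_right_mono hIm k)] at h2
  · intro y
    obtain ⟨x, rfl⟩ := Ideal.Quotient.mk_surjective y
    obtain ⟨a, ha⟩ := Ideal.Quotient.mk_surjective (AdicCompletion.evalₐ I k x)
    refine ⟨Ideal.Quotient.mk _ a, ?_⟩
    rw [Ideal.quotientMap_mk, Ideal.Quotient.eq]
    have h1 : algebraMap A (AdicCompletion I A) a - x ∈ RingHom.ker (AdicCompletion.evalₐ I k) := by
      rw [RingHom.mem_ker, map_sub, AlgHom.commutes, sub_eq_zero, ← ha]
      rfl
    rw [TopFT.ker_evalₐ I (IsNoetherian.noetherian _), ← Ideal.map_pow] at h1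
    exact Ideal.map_mono (Ideal.pow_right_mono hIm k) h1

/-- The completed local ring of `Â` at a maximal ideal is that of `A`. -/
theorem exists_local_completion (n : Ideal (AdicCompletion I A)) [n.IsMaximal] :
    ∃ (m : Ideal A) (_ : m.IsMaximal), I ≤ m ∧
      Nonempty (EGA4.Cpl (Localization.AtPrime m) ≃ₐ[A] EGA4.Cpl (Localization.AtPrime n)) := by
  let Ah := AdicCompletion I A
  have hfg : I.FG := IsNoetherian.noetherian _
  have := AdicCompletion.isAdicComplete_self _ hfg
  have hIn : I.map (algebraMap A Ah) ≤ n :=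
    (IsAdicComplete.le_jacobson_bot _).trans (sInf_le ⟨bot_le, inferInstance⟩)
  let m := n.comap (algebraMap A Ah)
  have hIm : I ≤ m := Ideal.map_le_iff_le_comap.mp hIn
  have hsurj : Function.Surjective ((Ideal.Quotient.mk n).comp (algebraMap A Ah)) := by
    intro y
    obtain ⟨x, rfl⟩ := Ideal.Quotient.mk_surjective y
    obtain ⟨a, ha⟩ := (bijective_level I hIm 1).2 (Ideal.Quotient.mk _ x)
    obtain ⟨a, rfl⟩ := Ideal.Quotient.mk_surjective a
    rw [Ideal.quotientMap_mk, Ideal.Quotient.eq] at ha
    refine ⟨a, Ideal.Quotient.eq.mpr (?_ : algebraMap A Ah a - x ∈ n)⟩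
    exact (Ideal.map_le_iff_le_comap.mpr (by rw [pow_one])) ha
  have hm : m.IsMaximal := by
    have : m = RingHom.ker ((Ideal.Quotient.mk n).comp (algebraMap A Ah)) := by
      rw [← RingHom.comap_ker, Ideal.mk_ker]
    rw [this]
    let := Ideal.Quotient.field n
    exact RingHom.ker_isMaximal_of_surjective _ hsurj
  have hnm : m.map (algebraMap A Ah) = n := by
    refine le_antisymm Ideal.map_comap_le fun x hx => ?_
    obtain ⟨a, ha⟩ := (bijective_level I hIm 1).2 (Ideal.Quotient.mk _ x)
    obtain ⟨a, rfl⟩ := Ideal.Quotient.mk_surjective a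
    rw [Ideal.quotientMap_mk, Ideal.Quotient.eq] at ha
    rw [pow_one] at ha
    have han : algebraMap A Ah a ∈ n := by
      have : algebraMap A Ah a = (algebraMap A Ah a - x) + x := by ring
      rw [this]
      exact n.add_mem (Ideal.map_comap_le ha) hx
    have : x = algebraMap A Ah a - (algebraMap A Ah a - x) := by ring
    rw [this]
    exact Ideal.sub_mem _ (Ideal.mem_map_of_mem _ han) ha
  let C := Localization.AtPrime m
  let D := Localization.AtPrime n
  let f : C →+* D := Localization.localRingHom m n (algebraMap A Ah) rfl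
  have hpow : ∀ k, (m ^ k).map (algebraMap A Ah) = n ^ k := fun k => by rw [Ideal.map_pow, hnm]
  let θ : ∀ k, C ⧸ maximalIdeal C ^ k ≃+* D ⧸ maximalIdeal D ^ k := fun k =>
    (IsLocalization.AtPrime.equivQuotMaximalIdealPow m C k).symm.toRingEquiv.trans
      (((RingEquiv.ofBijective _ (bijective_level I hIm k)).trans (Ideal.quotEquivOfEq (hpow k))).trans
        (IsLocalization.AtPrime.equivQuotMaximalIdealPow n D k).toRingEquiv)
  have hθA : ∀ k a, θ k (Ideal.Quotient.mk _ (algebraMap A C a)) =
      Ideal.Quotient.mk _ (algebraMap Ah D (algebraMap A Ah a)) := fun k a => by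
    simp only [θ, RingEquiv.trans_apply]
    rw [← IsLocalization.AtPrime.equivQuotMaximalIdealPow_apply_mk m]
    erw [AlgEquiv.symm_apply_apply]
    rfl
  have hθ : ∀ k c, θ k (Ideal.Quotient.mk _ c) = Ideal.Quotient.mk _ (f c) := by
    intro k
    have : (θ k).toRingHom.comp (Ideal.Quotient.mk _) = (Ideal.Quotient.mk _).comp f := by
      refine IsLocalization.ringHom_ext m.primeCompl (RingHom.ext fun a => ?_)
      change θ k (Ideal.Quotient.mk _ (algebraMap A C a)) = Ideal.Quotient.mk _ (f (algebraMap A C a))
      rw [hθA, Localization.localRingHom_to_map]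
    exact RingHom.congr_fun this
  obtain ⟨e, he⟩ := exists_completion_equiv (maximalIdeal C) (maximalIdeal D) f θ hθ
  refine ⟨m, hm, hIm, ⟨AlgEquiv.ofRingEquiv (f := e) fun a => ?_⟩⟩
  rw [IsScalarTower.algebraMap_apply A C (EGA4.Cpl C), he, Localization.localRingHom_to_map,
    ← IsScalarTower.algebraMap_apply A Ah D, ← IsScalarTower.algebraMap_apply A D (EGA4.Cpl D)]

omit [IsNoetherianRing A] in
/-- Fibres of algebras over a localization. -/
theorem fibre_of_localization (M : Submonoid A) (A' : Type u) [CommRing A'] [Algebra A A']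
    [IsLocalization M A'] {X : Type u} [CommRing X] [Algebra A' X] [Algebra A X] [IsScalarTower A A' X]
    (P : ∀ (R : Type u) [CommRing R], Prop)
    (hP : ∀ (R R' : Type u) [CommRing R] [CommRing R'], (R ≃+* R') → P R → P R')
    (hzero : ∀ (R : Type u) [CommRing R], Subsingleton R → P R)
    (hX : ∀ (p' : Ideal A') [p'.IsPrime] (L : Type u) [Field L] [Algebra p'.ResidueField L],
      Module.Finite p'.ResidueField L → P (L ⊗[p'.ResidueField] p'.Fiber X))
    (p : Ideal A) [p.IsPrime] (k' : Type u) [Field k'] [Algebra p.ResidueField k']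
    [Module.Finite p.ResidueField k'] : P (k' ⊗[p.ResidueField] p.Fiber X) := by
  let : Algebra A k' := ((algebraMap p.ResidueField k').comp (algebraMap A p.ResidueField)).toAlgebra
  have : IsScalarTower A p.ResidueField k' := .of_algebraMap_eq fun _ => rfl
  refine hP (k' ⊗[A] X) _
    (Algebra.TensorProduct.cancelBaseChange A p.ResidueField k' k' X).symm.toRingEquiv ?_
  by_cases hM : ∀ s : M, IsUnit (algebraMap A k' s)
  · let : Algebra A' k' := (IsLocalization.lift hM).toAlgebra
    have : IsScalarTower A A' k' := .of_algebraMap_eq fun x => (IsLocalization.lift_eq hM x).symm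
    let p' : Ideal A' := RingHom.ker (algebraMap A' k')
    have : p'.IsPrime := RingHom.ker_isPrime _
    let : Algebra p'.ResidueField k' := (Ideal.ResidueField.lift p' (algebraMap A' k') le_rfl
      fun x hx => isUnit_iff_ne_zero.mpr hx).toAlgebra
    have : IsScalarTower A' p'.ResidueField k' :=
      .of_algebraMap_eq fun x => (Ideal.ResidueField.lift_algebraMap ..).symm
    have : IsScalarTower A p'.ResidueField k' := IsScalarTower.to₁₃₄ A A' p'.ResidueField k'
    have hpp : p = p'.comap (algebraMap A A') := by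
      ext a
      rw [Ideal.mem_comap, RingHom.mem_ker, ← IsScalarTower.algebraMap_apply,
        IsScalarTower.algebraMap_apply A p.ResidueField k', map_eq_zero,
        Ideal.algebraMap_residueField_eq_zero]
    let : Algebra p.ResidueField p'.ResidueField :=
      (Ideal.ResidueField.map p p' (algebraMap A A') hpp).toAlgebra
    have : IsScalarTower p.ResidueField p'.ResidueField k' := .of_algebraMap_eq' <|
      Ideal.ResidueField.ringHom_ext (RingHom.ext fun a => by
        simp only [RingHom.comp_apply]
        rw [RingHom.algebraMap_toAlgebra (Ideal.ResidueField.map p p' (algebraMap A A') hpp),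
          Ideal.ResidueField.map_algebraMap, ← IsScalarTower.algebraMap_apply A' p'.ResidueField k',
          ← IsScalarTower.algebraMap_apply A p.ResidueField k', ← IsScalarTower.algebraMap_apply])
    have : Module.Finite p'.ResidueField k' :=
      Module.Finite.of_restrictScalars_finite p.ResidueField p'.ResidueField k'
    have := IsLocalization.tensorProduct_compatibleSMul M A' k' X
    exact hP _ _ ((Algebra.TensorProduct.cancelBaseChange A' p'.ResidueField k' k' X).toRingEquiv.trans
      (Algebra.TensorProduct.equivOfCompatibleSMul A A' A' k' X).toRingEquiv)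
      (hX p' k' inferInstance)
  · push Not at hM
    obtain ⟨s, hs⟩ := hM
    refine hzero _ (subsingleton_of_zero_eq_one ?_)
    have h0 : algebraMap A k' s = 0 := by
      by_contra h; exact hs (isUnit_iff_ne_zero.mpr h)
    obtain ⟨v, hv⟩ := isUnit_iff_exists_inv.mp ((IsLocalization.map_units A' s).map (algebraMap A' X))
    rw [← IsScalarTower.algebraMap_apply] at hv
    rw [Algebra.TensorProduct.one_def, ← hv, ← Algebra.smul_def, ← TensorProduct.smul_tmul,
      Algebra.smul_def, h0, zero_mul, TensorProduct.zero_tmul]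

/-- A fibre property of `A → Â` from the formal fibres of the local rings. -/
theorem fibre_completion (P : ∀ (R : Type u) [CommRing R], Prop)
    (hP : ∀ (R R' : Type u) [CommRing R] [CommRing R'], (R ≃+* R') → P R → P R')
    (hzero : ∀ (R : Type u) [CommRing R], Subsingleton R → P R)
    (hdesc : ∀ (R T : Type u) [CommRing R] [CommRing T] [Algebra R T] [Module.FaithfullyFlat R T],
      P T → P R)
    (hlocal : ∀ (R : Type u) [CommRing R] [IsNoetherianRing R], (∀ (Q : Ideal R) [Q.IsPrime],
      ∃ (R' : Type u) (_ : CommRing R') (_ : Algebra R R') (M : Submonoid R),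
        IsLocalization M R' ∧ Disjoint (M : Set R) Q ∧ P R') → P R)
    (hloc : ∀ (m : Ideal A) [m.IsMaximal] (p' : Ideal (Localization.AtPrime m)) [p'.IsPrime]
      (L : Type u) [Field L] [Algebra p'.ResidueField L], Module.Finite p'.ResidueField L →
        P (L ⊗[p'.ResidueField] p'.Fiber (EGA4.Cpl (Localization.AtPrime m))))
    (p : Ideal A) [p.IsPrime] (k' : Type u) [Field k'] [Algebra p.ResidueField k']
    [Module.Finite p.ResidueField k'] :
    P (k' ⊗[p.ResidueField] p.Fiber (AdicCompletion I A)) := by
  let Ah := AdicCompletion I A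
  have : IsNoetherianRing Ah := S0543.result A I
  let : Algebra A k' := ((algebraMap p.ResidueField k').comp (algebraMap A p.ResidueField)).toAlgebra
  have : IsScalarTower A p.ResidueField k' := .of_algebraMap_eq fun _ => rfl
  have : Algebra.EssFiniteType A k' := Algebra.EssFiniteType.comp A p.ResidueField k'
  have : IsNoetherianRing (k' ⊗[A] Ah) := by
    have := Algebra.EssFiniteType.isNoetherianRing Ah (Ah ⊗[A] k')
    exact isNoetherianRing_of_ringEquiv _ (Algebra.TensorProduct.comm A Ah k').toRingEquiv
  refine hP (k' ⊗[A] Ah) _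
    (Algebra.TensorProduct.cancelBaseChange A p.ResidueField k' k' Ah).symm.toRingEquiv
    (hlocal _ fun Q hQ => ?_)
  let q := Q.comap (Algebra.TensorProduct.includeRight : Ah →ₐ[A] k' ⊗[A] Ah).toRingHom
  obtain ⟨n, hn, hqn⟩ := Ideal.exists_le_maximal q (Ideal.IsPrime.ne_top inferInstance)
  let D := Localization.AtPrime n
  obtain ⟨m, hm, -, ⟨e⟩⟩ := exists_local_completion I n
  have h1 : P (k' ⊗[p.ResidueField] p.Fiber (EGA4.Cpl (Localization.AtPrime m))) :=
    fibre_of_localization m.primeCompl (Localization.AtPrime m) P hP hzero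
      (fun p' _ L _ _ hL => hloc m p' L hL) p k'
  have h2 : P (k' ⊗[p.ResidueField] p.Fiber (EGA4.Cpl D)) := hP _ _
    (Algebra.TensorProduct.congr (AlgEquiv.refl (R := k') (A₁ := k'))
      (Algebra.TensorProduct.congr (AlgEquiv.refl (R := p.ResidueField) (A₁ := p.ResidueField)) e)).toRingEquiv h1
  have : Module.FaithfullyFlat D (EGA4.Cpl D) := Module.FaithfullyFlat.of_flat_of_isLocalHom
  have h3 : P (k' ⊗[p.ResidueField] p.Fiber D) :=
    descend_base_change (C := EGA4.Cpl D) p k' P hP hdesc h2
  let : Algebra (k' ⊗[A] Ah) (k' ⊗[A] D) :=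
    (Algebra.TensorProduct.map (AlgHom.id k' k') (IsScalarTower.toAlgHom A Ah D)).toRingHom.toAlgebra
  have : IsScalarTower k' (k' ⊗[A] Ah) (k' ⊗[A] D) :=
    .of_algebraMap_eq fun c => ((Algebra.TensorProduct.map (AlgHom.id k' k')
      (IsScalarTower.toAlgHom A Ah D)).commutes c).symm
  have := IsLocalization.tensorProduct_tensorProduct_right (R := A) (S := k') n.primeCompl D
    (RingHom.ext fun c => by simp [RingHom.algebraMap_toAlgebra])
  refine ⟨k' ⊗[A] D, inferInstance, inferInstance, _, this, Set.disjoint_left.mpr ?_,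
    hP _ _ (Algebra.TensorProduct.cancelBaseChange A p.ResidueField k' k' D).toRingEquiv h3⟩
  rintro x ⟨s, hs, rfl⟩ hx
  exact hs (hqn hx)

end Groth.Agent.FlatAscent.Iadic
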