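import Groth.Agent.FlatAscent.Local

/-!
# Ascent of regularity and normality at a prime of a flat algebra
-/

universe u

namespace Groth.Agent.FlatAscent

open IsLocalRing LocCoh DepthLib

theorem depth_eq_of_ringEquiv {A B : Type u} [CommRing A] [CommRing B] [IsLocalRing A]
    [IsLocalRing B] (e : A ≃+* B) : depth B B = depth A A := by
  let : Algebra A B := e.toRingHom.toAlgebra
  have hs : Function.Surjective (algebraMap A B) := e.surjective
  unfold depth
  rw [← IsLocalRing.map_maximalIdeal_of_surjective (algebraMap A B) hs,
    idealDepth_map_of_surjective hs]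
  exact idealDepth_congr (AlgEquiv.ofBijective (Algebra.ofId A B) e.bijective).toLinearEquiv.symm

/-- Serre's inequality `(S_2)` for a normal local domain. -/
theorem min_two_le_depth_of_normal (T : Type u) [CommRing T] [IsLocalRing T] [IsNoetherianRing T]
    [IsDomain T] [IsIntegrallyClosed T] :
    min (2 : WithBot ℕ∞) (ringKrullDim T) ≤ ((depth T T : ℕ∞) : WithBot ℕ∞) := by
  by_cases h1 : 1 < ringKrullDim T
  · exact (min_le_left _ _).trans (WithBot.coe_le_coe.mpr (two_le_depth_of_isIntegrallyClosed h1))
  refine (min_le_right _ _).trans ?_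
  by_cases hf : IsField T
  · rw [ringKrullDim_eq_zero_of_isField hf]
    exact WithBot.coe_le_coe.mpr bot_le
  · obtain ⟨x, hxm, hx0⟩ := Submodule.exists_mem_ne_zero_of_ne_bot
      (mt IsLocalRing.isField_iff_maximalIdeal_eq.mpr hf)
    exact (not_lt.mp h1).trans (WithBot.coe_le_coe.mpr
      (one_le_idealDepth_iff.mpr ⟨x, hxm, fun a b hab => mul_left_cancel₀ hx0 hab⟩))

variable {A B : Type u} [CommRing A] [CommRing B] [IsNoetherianRing A] [IsNoetherianRing B]
  [Algebra A B] [Module.Flat A B] (q : Ideal B) [q.IsPrime]

/-- The local setting at `q`: data packaged for reuse. -/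
theorem exists_local_setting :
    ∃ (_ : Algebra (Localization.AtPrime (q.comap (algebraMap A B))) (Localization.AtPrime q))
      (_ : IsLocalHom (algebraMap (Localization.AtPrime (q.comap (algebraMap A B))) (Localization.AtPrime q)))
      (_ : Module.Flat (Localization.AtPrime (q.comap (algebraMap A B))) (Localization.AtPrime q)),
      Nonempty (EGA4.FibLocRing A B q ≃+*
        Fib (Localization.AtPrime (q.comap (algebraMap A B))) (Localization.AtPrime q)) := by
  let p := q.comap (algebraMap A B)
  let Bq := Localization.AtPrime q
  let : Algebra (Localization.AtPrime p) Bq :=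
    (Localization.localRingHom p q (algebraMap A B) rfl).toAlgebra
  have : IsScalarTower A (Localization.AtPrime p) Bq := .of_algebraMap_eq fun x => by
    rw [RingHom.algebraMap_toAlgebra, Localization.localRingHom_to_map,
      ← IsScalarTower.algebraMap_apply]
  have hloc : IsLocalHom (algebraMap (Localization.AtPrime p) Bq) :=
    Localization.isLocalHom_localRingHom p q (algebraMap A B) rfl
  have : Module.Flat A Bq := Module.Flat.trans A B Bq
  have hflat : Module.Flat (Localization.AtPrime p) Bq :=
    (Module.flat_iff_of_isLocalization (Localization.AtPrime p) p.primeCompl Bq).2 inferInstance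
  refine ⟨inferInstance, hloc, hflat, ⟨Ideal.quotEquivOfEq ?_⟩⟩
  rw [← Localization.AtPrime.map_eq_maximalIdeal, Ideal.map_map, ← IsScalarTower.algebraMap_eq]

/-- Regularity ascends at a prime with regular fibre local ring. -/
theorem isRegularLocalRing_atPrime
    (hA : IsRegularLocalRing (Localization.AtPrime (q.comap (algebraMap A B))))
    (hF : IsRegularLocalRing (EGA4.FibLocRing A B q)) :
    IsRegularLocalRing (Localization.AtPrime q) := by
  obtain ⟨_, _, _, ⟨e⟩⟩ := exists_local_setting (A := A) q
  have := hA
  have := hF
  exact isRegularLocalRing_of_flat_fibre (Localization.AtPrime (q.comap (algebraMap A B))) _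
    (IsRegularLocalRing.of_ringEquiv e)

theorem min_two_le_depth_atPrime
    [IsDomain (Localization.AtPrime (q.comap (algebraMap A B)))]
    [IsIntegrallyClosed (Localization.AtPrime (q.comap (algebraMap A B)))]
    [IsDomain (EGA4.FibLocRing A B q)] [IsIntegrallyClosed (EGA4.FibLocRing A B q)] :
    min (2 : WithBot ℕ∞) (ringKrullDim (Localization.AtPrime q)) ≤
      ((depth (Localization.AtPrime q) (Localization.AtPrime q) : ℕ∞) : WithBot ℕ∞) := by
  obtain ⟨_, _, _, ⟨e⟩⟩ := exists_local_setting (A := A) q
  have := isLocalRing_fibre (Localization.AtPrime (q.comap (algebraMap A B))) (Localization.AtPrime q)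
  refine min_two_le_depth (Localization.AtPrime (q.comap (algebraMap A B))) _ ?_
  have : IsDomain (Fib (Localization.AtPrime (q.comap (algebraMap A B))) (Localization.AtPrime q)) :=
    e.symm.toMulEquiv.isDomain
  have : IsIntegrallyClosed
      (Fib (Localization.AtPrime (q.comap (algebraMap A B))) (Localization.AtPrime q)) :=
    IsIntegrallyClosed.of_equiv e
  exact min_two_le_depth_of_normal _

/-- Localizations of normal local domains are normal. -/
theorem normal_of_le {C : Type u} [CommRing C] {p' p : Ideal C} [p'.IsPrime] [p.IsPrime] (h : p' ≤ p)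
    [IsDomain (Localization.AtPrime p)] [IsIntegrallyClosed (Localization.AtPrime p)] :
    IsDomain (Localization.AtPrime p') ∧ IsIntegrallyClosed (Localization.AtPrime p') := by
  have hle : p.primeCompl ≤ p'.primeCompl := fun x hx hxp => hx (h hxp)
  let : Algebra (Localization.AtPrime p) (Localization.AtPrime p') :=
    IsLocalization.localizationAlgebraOfSubmonoidLe _ _ p.primeCompl p'.primeCompl hle
  have : IsScalarTower C (Localization.AtPrime p) (Localization.AtPrime p') :=
    IsLocalization.localization_isScalarTower_of_submonoid_le _ _ _ _ hle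
  have hloc : IsLocalization (p'.primeCompl.map (algebraMap C (Localization.AtPrime p)))
      (Localization.AtPrime p') :=
    IsLocalization.isLocalization_of_submonoid_le (Localization.AtPrime p) (Localization.AtPrime p')
      p.primeCompl p'.primeCompl hle
  have hM : p'.primeCompl.map (algebraMap C (Localization.AtPrime p)) ≤
      nonZeroDivisors (Localization.AtPrime p) := by
    rintro _ ⟨x, hx, rfl⟩
    refine mem_nonZeroDivisors_of_ne_zero fun h0 => ?_
    have h0' := congrArg (algebraMap _ (Localization.AtPrime p')) h0
    rw [← IsScalarTower.algebraMap_apply, map_zero] at h0'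
    have hu := IsLocalization.map_units (Localization.AtPrime p') (⟨x, hx⟩ : p'.primeCompl)
    rw [h0'] at hu
    exact not_isUnit_zero hu
  exact ⟨IsLocalization.isDomain_of_le_nonZeroDivisors (S := Localization.AtPrime p') hM,
    isIntegrallyClosed_of_isLocalization _ _ hM⟩

/-- Normality ascends at a prime when the fibre local rings at its generizations are normal. -/
theorem normal_atPrime
    [IsDomain (Localization.AtPrime (q.comap (algebraMap A B)))]
    [IsIntegrallyClosed (Localization.AtPrime (q.comap (algebraMap A B)))]
    (hF : ∀ (q' : Ideal B) [q'.IsPrime], q' ≤ q →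
      IsDomain (EGA4.FibLocRing A B q') ∧ IsIntegrallyClosed (EGA4.FibLocRing A B q')) :
    IsDomain (Localization.AtPrime q) ∧ IsIntegrallyClosed (Localization.AtPrime q) := by
  let S := Localization.AtPrime q
  have hdata : ∀ (Q : Ideal S) [Q.IsPrime], (Q.height ≤ 1 → IsRegularLocalRing (Localization.AtPrime Q)) ∧
      min (2 : WithBot ℕ∞) (ringKrullDim (Localization.AtPrime Q)) ≤
        ((depth (Localization.AtPrime Q) (Localization.AtPrime Q) : ℕ∞) : WithBot ℕ∞) := by
    intro Q _
    let q' := Q.comap (algebraMap B S)
    have hq' : q' ≤ q := fun x hx => by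
      by_contra hxq
      exact (inferInstance : Q.IsPrime).ne_top (Ideal.eq_top_of_isUnit_mem _ hx
        (IsLocalization.map_units S (⟨x, hxq⟩ : q.primeCompl)))
    haveI : IsLocalization.AtPrime (Localization.AtPrime Q) q' :=
      IsLocalization.isLocalization_isLocalization_atPrime_isLocalization q.primeCompl
        (Localization.AtPrime Q) Q
    let e := (IsLocalization.algEquiv q'.primeCompl (Localization.AtPrime q')
      (Localization.AtPrime Q)).toRingEquiv
    have hA' := normal_of_le (p' := q'.comap (algebraMap A B)) (p := q.comap (algebraMap A B))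
      (Ideal.comap_mono hq')
    have := hA'.1
    have := hA'.2
    obtain ⟨hd, hi⟩ := hF q' hq'
    refine ⟨fun hh => ?_, ?_⟩
    · have hdim : ringKrullDim (Localization.AtPrime q') ≤ 1 := by
        rw [ringKrullDim_eq_of_ringEquiv e, IsLocalization.AtPrime.ringKrullDim_eq_height Q]
        exact (WithBot.coe_le_coe.mpr hh).trans_eq (by norm_num)
      obtain ⟨_, _, _, ⟨e'⟩⟩ := exists_local_setting (A := A) q'
      let R := Localization.AtPrime (q'.comap (algebraMap A B))
      have := isLocalRing_fibre R (Localization.AtPrime q')
      have hadd := ringKrullDim_eq_add R (Localization.AtPrime q')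
      have hR : ringKrullDim R ≤ 1 := by
        refine le_trans ?_ hdim
        rw [hadd]
        exact le_add_of_nonneg_right ringKrullDim_nonneg_of_nontrivial
      have hFd : ringKrullDim (Fib R (Localization.AtPrime q')) ≤ 1 := by
        refine le_trans ?_ hdim
        rw [hadd]
        exact le_add_of_nonneg_left ringKrullDim_nonneg_of_nontrivial
      haveI : IsDomain (Fib R (Localization.AtPrime q')) := e'.symm.toMulEquiv.isDomain
      haveI : IsIntegrallyClosed (Fib R (Localization.AtPrime q')) := IsIntegrallyClosed.of_equiv e'
      haveI := isRegularLocalRing_of_isIntegrallyClosed hR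
      haveI := isRegularLocalRing_of_flat_fibre R (Localization.AtPrime q')
        (isRegularLocalRing_of_isIntegrallyClosed hFd)
      exact IsRegularLocalRing.of_ringEquiv e
    · have := min_two_le_depth_atPrime (A := A) q'
      rwa [ringKrullDim_eq_of_ringEquiv e, ← depth_eq_of_ringEquiv e] at this
  obtain ⟨h1, h2⟩ := normal_of_hasRk_one_hasSk_two (R := S)
    (fun Q _ hQ => (hdata Q).1 (by exact_mod_cast hQ))
    (fun Q _ => by
      rw [depth_localization_self, supportDim_localization_self,
        ← IsLocalization.AtPrime.ringKrullDim_eq_height Q (Localization.AtPrime Q)]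
      exact_mod_cast (hdata Q).2)
    (maximalIdeal S)
  let e : S ≃+* Localization.AtPrime (maximalIdeal S) :=
    (IsLocalization.atUnits S (maximalIdeal S).primeCompl
      (fun x hx => by simpa [mem_maximalIdeal, IsUnit.mem_submonoid_iff] using hx)).toRingEquiv
  exact ⟨e.toMulEquiv.isDomain, IsIntegrallyClosed.of_equiv e.symm⟩

end Groth.Agent.FlatAscent
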