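import Groth.Agent.FlatAscent.Descent
import Groth.Agent.EGA41Lib.Separable
import Groth.Agent.PP16Lib.GeomRegLocal
import Groth.Agent.NormalLocus.GenericFinite
import Groth.Agent.PurelyInsepRed.Basic

/-!
# Geometric regularity and normality under arbitrary field extensions
-/

universe u

namespace Groth.Agent.FlatAscent

open IsLocalRing
open scoped TensorProduct IntermediateField.algebraAdjoinAdjoin

/-- Artinian reduced rings are regular. -/
theorem isRegularRing_of_isArtinianRing (R : Type u) [CommRing R] [IsArtinianRing R]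
    [_root_.IsReduced R] : IsRegularRing R :=
  isRegularRing_iff.mpr fun p hp => by
    have : p.IsMaximal := IsArtinianRing.isMaximal_of_isPrime p
    have : IsArtinianRing (Localization.AtPrime p) := inferInstance
    let := (IsArtinianRing.isField_of_isReduced_of_isLocalRing (Localization.AtPrime p)).toField
    exact (inferInstance : IsRegularLocalRing (Localization.AtPrime p))

variable {k : Type u} [Field k]

/-- The separable finite step. -/
theorem isRegularRing_tensor_of_separable (K₀ K L : Type u) [Field K₀] [Field K] [Field L]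
    [Algebra k K₀] [Algebra k K] [Algebra k L] [Algebra K₀ K] [IsScalarTower k K₀ K]
    [Algebra.EssFiniteType k K] [Algebra.IsSeparable K₀ K] (h : IsRegularRing (L ⊗[k] K₀)) :
    IsRegularRing (L ⊗[k] K) := by
  let R := K₀ ⊗[k] L
  have := h
  have : IsRegularRing R :=
    IsRegularRing.of_ringEquiv (R := L ⊗[k] K₀) (Algebra.TensorProduct.comm k L K₀).toRingEquiv
  let T := R ⊗[K₀] K
  have : Algebra.EssFiniteType K₀ K := Algebra.EssFiniteType.of_comp k K₀ K
  have : Algebra.IsAlgebraic K₀ K := Algebra.IsSeparable.isAlgebraic K₀ K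
  have : Module.Finite K₀ K := Algebra.finite_of_essFiniteType_of_isAlgebraic
  have : IsNoetherianRing T := IsNoetherianRing.of_finite R T
  have : Algebra.IsGeometricallyReduced K₀ K :=
    have := Algebra.FormallyEtale.of_isSeparable K₀ K
    Groth.Agent.EGA41Lib.formallySmooth_iff_isGeometricallyReduced.mp inferInstance
  have hT : IsRegularRing T := isRegularRing_of_fibres (A := R) fun Q _ => by
    have : IsReduced (K ⊗[K₀] Q.ResidueField) := Groth.Agent.EGA41Lib.isReduced_tensor Q.ResidueField
    have : IsReduced (Q.ResidueField ⊗[K₀] K) :=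
      isReduced_of_injective _ (Algebra.TensorProduct.comm K₀ Q.ResidueField K).injective
    have : IsArtinianRing (Q.ResidueField ⊗[K₀] K) := IsArtinianRing.of_finite Q.ResidueField _
    have := isRegularRing_of_isArtinianRing (Q.ResidueField ⊗[K₀] K)
    exact IsRegularRing.of_ringEquiv (R := Q.ResidueField ⊗[K₀] K)
      (Algebra.TensorProduct.cancelBaseChange K₀ R Q.ResidueField Q.ResidueField K).symm.toRingEquiv
  exact IsRegularRing.of_ringEquiv (R := T)
    (((Algebra.TensorProduct.comm K₀ R K).toRingEquiv.trans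
      (Algebra.TensorProduct.cancelBaseChange k K₀ K K L).toRingEquiv).trans
      (Algebra.TensorProduct.comm k K L).toRingEquiv)

/-- A finitely generated separable extension stays regular after any field extension. -/
theorem isRegularRing_field_tensor (K L : Type u) [Field K] [Algebra k K] [Field L] [Algebra k L]
    [Algebra.EssFiniteType k K] [Algebra.IsGeometricallyReduced k K] : IsRegularRing (L ⊗[k] K) := by
  classical
  obtain ⟨s, hs, hsep⟩ : ∃ t : Finset K, IsTranscendenceBasis k ((↑) : t → K) ∧
      Algebra.IsSeparable (IntermediateField.adjoin k (t : Set K)) K := by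
    obtain _ | ⟨p, hp, hpk⟩ := CharP.exists' k
    · exact exists_isTranscendenceBasis_and_isSeparable_of_perfectField k K
    · have : CharP K p := charP_of_injective_algebraMap (algebraMap k K).injective p
      exact exists_isTranscendenceBasis_and_isSeparable_of_linearIndepOn_pow_of_essFiniteType p hp.out
        fun s hs => Groth.Agent.EGA41Lib.frobLI_of_isGeometricallyReduced (p := p) _ hs
  let P₀ := Algebra.adjoin k (s : Set K)
  let K₀ := IntermediateField.adjoin k (s : Set K)
  have : IsRegularRing (L ⊗[k] P₀) := by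
    let e : MvPolynomial (↥s) k ≃ₐ[k] P₀ :=
      hs.1.aevalEquiv.trans (Subalgebra.equivOfEq _ _ (by rw [Subtype.range_coe_subtype]; rfl))
    exact IsRegularRing.of_ringEquiv (R := MvPolynomial (↥s) L)
      ((MvPolynomial.algebraTensorAlgEquiv k L).symm.trans
        (Algebra.TensorProduct.congr AlgEquiv.refl e)).toRingEquiv
  let : Algebra (L ⊗[k] P₀) (L ⊗[k] K₀) :=
    (Algebra.TensorProduct.map (AlgHom.id L L) (IsScalarTower.toAlgHom k P₀ K₀)).toRingHom.toAlgebra
  have : IsScalarTower L (L ⊗[k] P₀) (L ⊗[k] K₀) :=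
    .of_algebraMap_eq fun c => ((Algebra.TensorProduct.map (AlgHom.id L L)
      (IsScalarTower.toAlgHom k P₀ K₀)).commutes c).symm
  have := IsLocalization.tensorProduct_tensorProduct_right (R := k) (S := L) (nonZeroDivisors P₀) K₀
    (RingHom.ext fun c => by simp [RingHom.algebraMap_toAlgebra])
  have : IsRegularRing (L ⊗[k] K₀) := PP16Lib.isRegularRing_of_isLocalization
    (T := L ⊗[k] P₀) ((nonZeroDivisors P₀).map (Algebra.TensorProduct.includeRight (R := k) (A := L)))
  exact isRegularRing_tensor_of_separable K₀ K L inferInstance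

omit [Field k] in
/-- For a finitely generated extension: a compositum separable over a finite extension. -/
theorem exists_separable_compositum [Field k] (K : Type u) [Field K] [Algebra k K]
    [Algebra.EssFiniteType k K] :
    ∃ (k' : Type u) (_ : Field k') (_ : Algebra k k') (K' : Type u) (_ : Field K') (_ : Algebra k' K')
      (_ : Algebra k K') (_ : Algebra K K'), (Module.Finite k k' ∧ IsPurelyInseparable k k') ∧
      IsScalarTower k k' K' ∧
      IsScalarTower k K K' ∧ Algebra.EssFiniteType k' K' ∧ Algebra.IsGeometricallyReduced k' K' := by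
  let T := Algebra.EssFiniteType.subalgebra k K
  obtain ⟨k', _, _, hfin, hpi, hgr⟩ := PurelyInsepRed.exists_isGeometricallyReduced (k := k) T
  let N := nilradical (k' ⊗[k] T)
  have : N.IsPrime := PurelyInsepRed.isPrime_nilradical k' T
  let T' := (k' ⊗[k] T) ⧸ N
  let K' := FractionRing T'
  let eT : T →ₐ[k] T' := (Ideal.Quotient.mkₐ k N).comp Algebra.TensorProduct.includeRight
  let τ : T →ₐ[k] K' := (IsScalarTower.toAlgHom k T' K').comp eT
  have : IsFractionRing T K := by
    refine IsFractionRing.of_field T K fun z => ?_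
    obtain ⟨⟨a, b⟩, hab⟩ := IsLocalization.surj (Algebra.EssFiniteType.submonoid k K) z
    exact ⟨a, b, by rw [← hab, mul_div_cancel_right₀ _ (IsLocalization.map_units K b).ne_zero]⟩
  have hτ : Function.Injective τ := by
    refine (IsFractionRing.injective T' K').comp ((injective_iff_map_eq_zero eT).mpr fun x hx => ?_)
    have h1 : IsNilpotent ((Algebra.TensorProduct.includeRight : T →ₐ[k] k' ⊗[k] T) x) :=
      mem_nilradical.mp (Ideal.Quotient.eq_zero_iff_mem.mp hx)
    exact ((IsNilpotent.map_iff (Algebra.TensorProduct.includeRight_injective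
      (algebraMap k k').injective)).mp h1).eq_zero
  let j : K →ₐ[k] K' := IsFractionRing.liftAlgHom hτ
  let : Algebra K K' := j.toRingHom.toAlgebra
  have : IsScalarTower k K K' := .of_algebraMap_eq fun x => (j.commutes x).symm
  have : IsScalarTower k k' K' := IsScalarTower.to₁₂₄ k k' T' K'
  have : Algebra.FiniteType k' T' :=
    Algebra.FiniteType.of_surjective (Ideal.Quotient.mkₐ k' N) Ideal.Quotient.mk_surjective
  have : Algebra.EssFiniteType T' K' := Algebra.EssFiniteType.of_isLocalization K' (nonZeroDivisors T')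
  exact ⟨k', inferInstance, inferInstance, K', inferInstance, inferInstance, inferInstance,
    inferInstance, ⟨hfin, hpi⟩, inferInstance, inferInstance, Algebra.EssFiniteType.comp k' T' K',
    NormalLocus.isGeometricallyReduced_fractionField (T := T') K'⟩

variable {S : Type u} [CommRing S] [Algebra k S]

/-- Geometric `P` holds after finitely generated field extensions. -/
theorem of_geometric [IsNoetherianRing S] (P : ∀ (R : Type u) [CommRing R], Prop)
    (hP : ∀ (R R' : Type u) [CommRing R] [CommRing R'], (R ≃+* R') → P R → P R')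
    (hreg : ∀ (R : Type u) [CommRing R], IsRegularRing R → P R)
    (hasc : ∀ (R T : Type u) [CommRing R] [CommRing T] [IsNoetherianRing R] [IsNoetherianRing T]
      [Algebra R T] [Module.Flat R T], P R → (∀ (Q : Ideal R) [Q.IsPrime], P (Q.Fiber T)) → P T)
    (hdesc : ∀ (R T : Type u) [CommRing R] [CommRing T] [Algebra R T] [Module.FaithfullyFlat R T],
      P T → P R)
    (hS : ∀ (k' : Type u) [Field k'] [Algebra k k'], Module.Finite k k' → IsPurelyInseparable k k' →
      P (k' ⊗[k] S))
    (K : Type u) [Field K] [Algebra k K] [Algebra.EssFiniteType k K] : P (K ⊗[k] S) := by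
  obtain ⟨k', _, _, K', _, _, _, _, ⟨hfin, hpi⟩, _, _, _, _⟩ := exists_separable_compositum (k := k) K
  let R := k' ⊗[k] S
  have : IsNoetherianRing R := isNoetherianRing_fibre_tensor
  let T := R ⊗[k'] K'
  have : IsNoetherianRing T := Algebra.EssFiniteType.isNoetherianRing R T
  have hT : P T := hasc R T (hS k' hfin hpi) fun Q _ => by
    have := isRegularRing_field_tensor (k := k') K' Q.ResidueField
    exact hP _ _ (Algebra.TensorProduct.cancelBaseChange k' R Q.ResidueField Q.ResidueField K').symm.toRingEquiv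
      (hreg _ this)
  let R₁ := K ⊗[k] S
  let T₁ := R₁ ⊗[K] K'
  let e : T ≃+* T₁ :=
    ((Algebra.TensorProduct.comm k' R K').toRingEquiv.trans
      (Algebra.TensorProduct.cancelBaseChange k k' K' K' S).toRingEquiv).trans
      ((Algebra.TensorProduct.cancelBaseChange k K K' K' S).symm.toRingEquiv.trans
        (Algebra.TensorProduct.comm K K' R₁).toRingEquiv)
  exact hdesc R₁ T₁ (hP T T₁ e hT)

/-- An ideal generated by elements defined over `F` is extended from `F ⊗ S`. -/
theorem map_comap_of_generators {F L : Type u} [Field F] [Field L] [Algebra k F] [Algebra k L]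
    [Algebra F L] [IsScalarTower k F L] (Q : Ideal (L ⊗[k] S)) (G : Set (L ⊗[k] S))
    (hG : Ideal.span G = Q) (hG' : ∀ x ∈ G,
      x ∈ Set.range (Algebra.TensorProduct.map (IsScalarTower.toAlgHom k F L) (AlgHom.id k S))) :
    ∃ e : (F ⊗[k] S) ⊗[F] L ≃+* L ⊗[k] S,
      ((Q.comap e).comap (algebraMap (F ⊗[k] S) ((F ⊗[k] S) ⊗[F] L))).map
        (algebraMap (F ⊗[k] S) ((F ⊗[k] S) ⊗[F] L)) = Q.comap e := by
  obtain ⟨e, hι⟩ : ∃ e : (F ⊗[k] S) ⊗[F] L ≃+* L ⊗[k] S, ∀ y,
      e (algebraMap (F ⊗[k] S) ((F ⊗[k] S) ⊗[F] L) y) =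
        Algebra.TensorProduct.map (IsScalarTower.toAlgHom k F L) (AlgHom.id k S) y := by
    refine ⟨(Algebra.TensorProduct.comm F (F ⊗[k] S) L).toRingEquiv.trans
      (Algebra.TensorProduct.cancelBaseChange k F L L S).toRingEquiv, fun y => ?_⟩
    induction y using TensorProduct.induction_on with
    | zero => simp
    | tmul c s => simp [Algebra.TensorProduct.algebraMap_apply, Algebra.smul_def]
    | add a b ha hb => simp only [map_add, ha, hb]
  refine ⟨e, le_antisymm Ideal.map_comap_le ?_⟩
  rw [show Q.comap e = (Ideal.span G).map (e.symm : L ⊗[k] S →+* _) by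
    rw [show Ideal.span G = Q from hG]; exact (Ideal.map_symm e).symm]
  rw [Ideal.map_le_iff_le_comap, Ideal.span_le]
  intro x hx
  obtain ⟨y, hy⟩ := hG' x hx
  have hey : e.symm x = algebraMap (F ⊗[k] S) ((F ⊗[k] S) ⊗[F] L) y := by
    rw [← hy, ← hι, e.symm_apply_apply]
  rw [SetLike.mem_coe, Ideal.mem_comap, RingHom.coe_coe]
  rw [hey]
  have hxG := Ideal.mem_map_of_mem (e.symm : L ⊗[k] S →+* (F ⊗[k] S) ⊗[F] L)
    (Ideal.subset_span hx)
  rw [RingHom.coe_coe, hey] at hxG
  exact Ideal.mem_map_of_mem _ (Ideal.mem_comap.mpr hxG)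


/-- Primes of `L ⊗ S` are extended from finitely generated subextensions. -/
theorem exists_descent (L : Type u) [Field L] [Algebra k L] [IsNoetherianRing (L ⊗[k] S)]
    (Q : Ideal (L ⊗[k] S)) [Q.IsPrime] :
    ∃ (L₀ : Type u) (_ : Field L₀) (_ : Algebra k L₀) (_ : Algebra L₀ L) (_ : IsScalarTower k L₀ L)
      (e : (L₀ ⊗[k] S) ⊗[L₀] L ≃+* L ⊗[k] S),
      Algebra.EssFiniteType k L₀ ∧
      ((Q.comap e).comap (algebraMap (L₀ ⊗[k] S) ((L₀ ⊗[k] S) ⊗[L₀] L))).map
        (algebraMap (L₀ ⊗[k] S) ((L₀ ⊗[k] S) ⊗[L₀] L)) = Q.comap e := by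
  classical
  obtain ⟨G, hG⟩ := (IsNoetherian.noetherian Q : Q.FG)
  have hx : ∀ x : L ⊗[k] S, ∃ U : Finset L, ∀ F : IntermediateField k L, (U : Set L) ⊆ F →
      x ∈ Set.range (Algebra.TensorProduct.map (IsScalarTower.toAlgHom k F L) (AlgHom.id k S)) := by
    intro x
    induction x using TensorProduct.induction_on with
    | zero => exact ⟨∅, fun F _ => ⟨0, map_zero _⟩⟩
    | tmul c a => exact ⟨{c}, fun F hF => ⟨(⟨c, hF (by simp)⟩ : F) ⊗ₜ a, rfl⟩⟩
    | add a b ha hb =>
      obtain ⟨U, hU⟩ := ha
      obtain ⟨U', hU'⟩ := hb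
      refine ⟨U ∪ U', fun F hF => ?_⟩
      obtain ⟨a', ha'⟩ := hU F ((Finset.coe_subset.mpr Finset.subset_union_left).trans hF)
      obtain ⟨b', hb'⟩ := hU' F ((Finset.coe_subset.mpr Finset.subset_union_right).trans hF)
      exact ⟨a' + b', by rw [map_add, ha', hb']⟩
  choose U hU using hx
  let F := IntermediateField.adjoin k (G.biUnion U : Set L)
  obtain ⟨e, he⟩ := map_comap_of_generators (F := F) Q (G : Set (L ⊗[k] S)) hG fun x hx =>
    hU x F ((Finset.coe_subset.mpr (Finset.subset_biUnion_of_mem U hx)).trans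
      (IntermediateField.subset_adjoin k _))
  exact ⟨F, inferInstance, inferInstance, inferInstance, inferInstance, e,
    IntermediateField.essFiniteType_iff.mpr (IntermediateField.fg_adjoin_finset _), he⟩

omit [Field k] in
/-- At a prime extended from the base, the fibre local ring is a field. -/
theorem isField_fibLocRing {A B : Type u} [CommRing A] [CommRing B] [Algebra A B] (q : Ideal B)
    [q.IsPrime] (h : (q.comap (algebraMap A B)).map (algebraMap A B) = q) :
    IsField (EGA4.FibLocRing A B q) := by
  have : (q.comap (algebraMap A B)).map (algebraMap A (Localization.AtPrime q)) =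
      maximalIdeal (Localization.AtPrime q) := by
    rw [IsScalarTower.algebraMap_eq A B (Localization.AtPrime q), ← Ideal.map_map, h,
      Localization.AtPrime.map_eq_maximalIdeal]
  exact (Ideal.Quotient.maximal_ideal_iff_isField_quotient _).mp (this ▸ maximalIdeal.isMaximal _)

/-- A geometrically regular algebra stays regular after any field extension (Noetherian case). -/
theorem isRegularRing_tensor_of_geometricallyRegular [IsNoetherianRing S]
    (hS : CAlg.IsGeometricallyRegular k S) (L : Type u) [Field L] [Algebra k L]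
    [IsNoetherianRing (L ⊗[k] S)] : IsRegularRing (L ⊗[k] S) := by
  refine isRegularRing_iff.mpr fun Q hQ => ?_
  obtain ⟨L₀, _, _, _, _, e, hft, hmap⟩ := exists_descent L Q
  have hR : IsRegularRing (L₀ ⊗[k] S) := of_geometric (fun R _ => IsRegularRing R)
    (fun R _ _ _ e h => haveI := h; IsRegularRing.of_ringEquiv e) (fun _ _ h => h)
    (fun R T _ _ _ _ _ _ hR hT => haveI := hR; isRegularRing_of_fibres hT)
    (fun R T _ _ _ _ h => haveI := h; J2Lib.isRegularRing_of_faithfullyFlat R T) (fun k' _ _ h _ => hS k' h) L₀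
  have : IsNoetherianRing ((L₀ ⊗[k] S) ⊗[L₀] L) := isNoetherianRing_of_ringEquiv _ e.symm
  let := (isField_fibLocRing (A := L₀ ⊗[k] S) (Q.comap e) hmap).toField
  have := isRegularLocalRing_atPrime (A := L₀ ⊗[k] S) (Q.comap e) inferInstance inferInstance
  exact IsRegularLocalRing.of_ringEquiv (R := Localization.AtPrime (Q.comap e))
    (IsLocalization.ringEquivOfRingEquiv (Localization.AtPrime (Q.comap e)) (Localization.AtPrime Q) e
      (e.map_primeCompl_comap_eq Q))

/-- A geometrically normal algebra stays normal after any field extension (Noetherian case). -/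
theorem isNormalRing_tensor_of_geomNormal [IsNoetherianRing S]
    (hS : EGA4.IsGeomNormal k S) (L : Type u) [Field L] [Algebra k L]
    [IsNoetherianRing (L ⊗[k] S)] : EGA4.IsNormalRing (L ⊗[k] S) := by
  refine fun P _ => DepthLib.normal_of_hasRk_one_hasSk_two (fun Q _ hQ => ?_) (fun Q _ => ?_) P
  all_goals
    obtain ⟨L₀, _, _, _, _, e, hft, hmap⟩ := exists_descent L Q
    have hR : EGA4.IsNormalRing (L₀ ⊗[k] S) := of_geometric (fun R _ => EGA4.IsNormalRing R)
      (fun R _ _ _ e h => isNormalRing_of_ringEquiv e h)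
      (fun R _ h => haveI := h; isNormalRing_of_isRegularRing)
      (fun R T _ _ _ _ _ _ hR hT => isNormalRing_of_fibres hR hT)
      (fun R T _ _ _ _ h => isNormalRing_of_faithfullyFlat h) (fun k' _ _ h _ => hS k' h) L₀
    have : IsNoetherianRing ((L₀ ⊗[k] S) ⊗[L₀] L) := isNoetherianRing_of_ringEquiv _ e.symm
    have : IsNoetherianRing (L₀ ⊗[k] S) := by
      have := Algebra.EssFiniteType.isNoetherianRing S (S ⊗[k] L₀)
      exact isNoetherianRing_of_ringEquiv (S ⊗[k] L₀) (Algebra.TensorProduct.comm k S L₀).toRingEquiv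
    let f : Localization.AtPrime (Q.comap e) ≃+* Localization.AtPrime Q :=
      IsLocalization.ringEquivOfRingEquiv (Localization.AtPrime (Q.comap e)) (Localization.AtPrime Q) e
        (e.map_primeCompl_comap_eq Q)
    obtain ⟨hd, hi⟩ := hR ((Q.comap e).comap (algebraMap (L₀ ⊗[k] S) ((L₀ ⊗[k] S) ⊗[L₀] L)))
    let := (isField_fibLocRing (A := L₀ ⊗[k] S) (Q.comap e) hmap).toField
  · suffices IsRegularLocalRing (Localization.AtPrime (Q.comap e)) from
      IsRegularLocalRing.of_ringEquiv (R := Localization.AtPrime (Q.comap e)) f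
    refine isRegularLocalRing_atPrime (A := L₀ ⊗[k] S) (Q.comap e) ?_ inferInstance
    obtain ⟨_, _, _, ⟨e'⟩⟩ := exists_local_setting (A := L₀ ⊗[k] S) (Q.comap e)
    refine DepthLib.isRegularLocalRing_of_isIntegrallyClosed ?_
    have hd1 : ringKrullDim (Localization.AtPrime (Q.comap e)) ≤ 1 := by
      rw [ringKrullDim_eq_of_ringEquiv f, IsLocalization.AtPrime.ringKrullDim_eq_height Q]
      exact (WithBot.coe_le_coe.mpr hQ).trans_eq (by norm_num)
    refine le_trans ?_ hd1
    rw [ringKrullDim_eq_add (Localization.AtPrime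
      ((Q.comap e).comap (algebraMap (L₀ ⊗[k] S) ((L₀ ⊗[k] S) ⊗[L₀] L)))) (Localization.AtPrime (Q.comap e))]
    have := isLocalRing_fibre (Localization.AtPrime
      ((Q.comap e).comap (algebraMap (L₀ ⊗[k] S) ((L₀ ⊗[k] S) ⊗[L₀] L)))) (Localization.AtPrime (Q.comap e))
    exact le_add_of_nonneg_right ringKrullDim_nonneg_of_nontrivial
  · rw [DepthLib.depth_localization_self, DepthLib.supportDim_localization_self,
      ← IsLocalization.AtPrime.ringKrullDim_eq_height Q (Localization.AtPrime Q)]
    have := min_two_le_depth_atPrime (A := L₀ ⊗[k] S) (Q.comap e)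
    rw [ringKrullDim_eq_of_ringEquiv f, ← depth_eq_of_ringEquiv f] at this
    exact_mod_cast this

end Groth.Agent.FlatAscent
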