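import Groth.Prelude.Def_EGA4b
import Groth.Agent.DepthLib.SerreNormal
import Groth.Agent.DepthLib.FlatDepth
import Groth.Agent.DepthLib.Ext
import Mathlib

/-!
# Ascent of regularity and normality along flat local homomorphisms
-/

universe u

namespace Groth.Agent.FlatAscent

open IsLocalRing LocCoh DepthLib

variable (R S : Type u) [CommRing R] [CommRing S] [IsLocalRing R] [IsLocalRing S]
  [IsNoetherianRing R] [IsNoetherianRing S] [Algebra R S] [IsLocalHom (algebraMap R S)]
  [Module.Flat R S]

/-- The closed fibre. -/
abbrev Fib (R S : Type u) [CommRing R] [IsLocalRing R] [CommRing S] [Algebra R S] : Type u :=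
  S ⧸ (maximalIdeal R).map (algebraMap R S)

omit [IsNoetherianRing R] [IsNoetherianRing S] [Module.Flat R S] in
theorem map_le : (maximalIdeal R).map (algebraMap R S) ≤ maximalIdeal S :=
  ((local_hom_TFAE (algebraMap R S)).out 0 2 rfl rfl).mp ‹_›

omit [IsNoetherianRing R] [IsNoetherianRing S] [Module.Flat R S] in
theorem isLocalRing_fibre : IsLocalRing (Fib R S) :=
  haveI : Nontrivial (Fib R S) := Ideal.Quotient.nontrivial_iff.mpr
    (ne_top_of_le_ne_top (maximalIdeal.isMaximal S).ne_top (map_le R S))
  IsLocalRing.of_surjective' (Ideal.Quotient.mk _) Ideal.Quotient.mk_surjective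

theorem ringKrullDim_eq_add : ringKrullDim S = ringKrullDim R + ringKrullDim (Fib R S) := by
  haveI := isLocalRing_fibre R S
  haveI : (maximalIdeal S).LiesOver (maximalIdeal R) :=
    ⟨(((local_hom_TFAE (algebraMap R S)).out 0 4 rfl rfl).mp ‹_›).symm⟩
  have h := Ideal.height_eq_height_add_of_liesOver_of_hasGoingDown (maximalIdeal R) (maximalIdeal S)
  have hmax : (maximalIdeal S).map (Ideal.Quotient.mk ((maximalIdeal R).map (algebraMap R S))) =
      maximalIdeal (Fib R S) :=
    IsLocalRing.map_maximalIdeal_of_surjective _ Ideal.Quotient.mk_surjective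
  rw [hmax] at h
  rw [← maximalIdeal_height_eq_ringKrullDim, ← maximalIdeal_height_eq_ringKrullDim (R := R),
    ← maximalIdeal_height_eq_ringKrullDim (R := (Fib R S)), h]
  rfl

/-- Regular base and regular closed fibre give a regular ring. -/
theorem isRegularLocalRing_of_flat_fibre [IsRegularLocalRing R] (h : IsRegularLocalRing (Fib R S)) :
    IsRegularLocalRing S := by
  classical
  haveI := h
  obtain ⟨a, ha, hspan⟩ := Submodule.FG.exists_span_finset_card_eq_spanFinrank
    (IsNoetherian.noetherian (maximalIdeal R))
  obtain ⟨b, hb, hspan'⟩ := Submodule.FG.exists_span_finset_card_eq_spanFinrank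
    (IsNoetherian.noetherian (maximalIdeal (Fib R S)))
  let mk := Ideal.Quotient.mk ((maximalIdeal R).map (algebraMap R S))
  let b' : Finset S := b.image (Function.surjInv (Ideal.Quotient.mk_surjective : Function.Surjective mk))
  let G : Finset S := a.image (algebraMap R S) ∪ b'
  have hG : maximalIdeal S ≤ Ideal.span (G : Set S) := by
    have h1 : (maximalIdeal R).map (algebraMap R S) ≤ Ideal.span (G : Set S) := by
      rw [show maximalIdeal R = Ideal.span (a : Set R) from hspan.symm, Ideal.map_span]
      exact Ideal.span_mono fun x hx => Finset.mem_coe.mpr (Finset.mem_union_left _ (by simpa using hx))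
    have h2 : maximalIdeal (Fib R S) ≤ (Ideal.span (G : Set S)).map mk := by
      rw [show maximalIdeal (Fib R S) = Ideal.span (b : Set (Fib R S)) from hspan'.symm, Ideal.span_le]
      intro y hy
      rw [SetLike.mem_coe, ← Function.surjInv_eq (Ideal.Quotient.mk_surjective : Function.Surjective mk) y]
      exact Ideal.mem_map_of_mem _ (Ideal.subset_span
        (Finset.mem_coe.mpr (Finset.mem_union_right _ (Finset.mem_image_of_mem _ hy))))
    intro x hx
    have hx' : mk x ∈ maximalIdeal (Fib R S) := by
      rw [← IsLocalRing.map_maximalIdeal_of_surjective mk Ideal.Quotient.mk_surjective]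
      exact Ideal.mem_map_of_mem _ hx
    obtain ⟨y, hy, hxy⟩ := (Ideal.mem_map_iff_of_surjective _ Ideal.Quotient.mk_surjective).mp (h2 hx')
    have := h1 (Ideal.Quotient.eq.mp hxy)
    simpa using sub_mem hy this
  have hG' : Ideal.span (G : Set S) ≤ maximalIdeal S := by
    rw [Ideal.span_le]
    intro x hx
    rcases Finset.mem_union.mp (Finset.mem_coe.mp hx) with hx | hx
    · obtain ⟨r, hr, rfl⟩ := Finset.mem_image.mp hx
      exact map_le R S (Ideal.mem_map_of_mem _ (hspan ▸ Submodule.subset_span hr))
    · obtain ⟨y, hy, rfl⟩ := Finset.mem_image.mp hx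
      have hy' : y ∈ maximalIdeal (Fib R S) := hspan' ▸ Submodule.subset_span hy
      by_contra hu
      rw [SetLike.mem_coe, mem_maximalIdeal, mem_nonunits_iff, not_not] at hu
      have := hu.map mk
      rw [Function.surjInv_eq (Ideal.Quotient.mk_surjective : Function.Surjective mk) y] at this
      exact hy' this
  refine IsRegularLocalRing.of_spanFinrank_maximalIdeal_le S ?_
  have hcard : (maximalIdeal S).spanFinrank ≤
      (maximalIdeal R).spanFinrank + (maximalIdeal (Fib R S)).spanFinrank := by
    rw [show maximalIdeal S = Ideal.span (G : Set S) from le_antisymm hG hG']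
    refine (Submodule.spanFinrank_span_le_ncard_of_finite G.finite_toSet).trans ?_
    rw [Set.ncard_coe_finset, ← ha, ← hb]
    exact (Finset.card_union_le _ _).trans (add_le_add Finset.card_image_le Finset.card_image_le)
  rw [ringKrullDim_eq_add R S, ← IsRegularLocalRing.spanFinrank_maximalIdeal,
    ← IsRegularLocalRing.spanFinrank_maximalIdeal (R := (Fib R S))]
  exact_mod_cast hcard

/-- Serre's depth inequality `(S_2)` at the closed point ascends from a normal base. -/
theorem min_two_le_depth [IsDomain R] [IsIntegrallyClosed R]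
    (hS : haveI := isLocalRing_fibre R S
      min (2 : WithBot ℕ∞) (ringKrullDim (Fib R S)) ≤ ((depth (Fib R S) (Fib R S) : ℕ∞) : WithBot ℕ∞)) :
    min (2 : WithBot ℕ∞) (ringKrullDim S) ≤ ((depth S S : ℕ∞) : WithBot ℕ∞) := by
  haveI := isLocalRing_fibre R S
  have hR : idealDepth ((maximalIdeal R).map (algebraMap R S)) S = depth R R :=
    idealDepth_map_eq fun p hp _ => map_ne_top_of_isLocalHom p hp
  have hle : depth R R ≤ depth S S := hR ▸ idealDepth_mono (map_le R S)
  by_cases h2 : 1 < ringKrullDim R
  · exact (min_le_left _ _).trans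
      (WithBot.coe_le_coe.mpr ((two_le_depth_of_isIntegrallyClosed h2).trans hle))
  rw [not_lt] at h2
  haveI : IsRegularLocalRing R := isRegularLocalRing_of_isIntegrallyClosed h2
  rw [← IsRegularLocalRing.spanFinrank_maximalIdeal] at h2
  have h2' : (maximalIdeal R).spanFinrank ≤ 1 := by exact_mod_cast h2
  rcases Nat.le_one_iff_eq_zero_or_eq_one.mp h2' with h0 | h1
  · have hm : (maximalIdeal R).map (algebraMap R S) = ⊥ := by
      rw [(Submodule.spanFinrank_eq_zero_iff_eq_bot (IsNoetherian.noetherian _)).mp h0, Ideal.map_bot]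
    let e : S ≃+* (Fib R S) := (RingEquiv.quotientBot S).symm.trans (Ideal.quotEquivOfEq hm.symm)
    have hd : depth (Fib R S) (Fib R S) = depth S S := by
      unfold depth
      rw [← IsLocalRing.map_maximalIdeal_of_surjective
        (algebraMap S (Fib R S)) Ideal.Quotient.mk_surjective,
        idealDepth_map_of_surjective Ideal.Quotient.mk_surjective]
      exact idealDepth_congr ((Submodule.quotEquivOfEqBot _ hm))
    rwa [← ringKrullDim_eq_of_ringEquiv e, hd] at hS
  · obtain ⟨π, hπ⟩ := ((Submodule.spanFinrank_eq_one_iff _).mp h1).1.principal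
    have hπ0 : π ≠ 0 := fun h => by
      rw [h, Submodule.span_zero_singleton] at hπ
      rw [hπ, Submodule.spanFinrank_bot] at h1
      omega
    have hm : (maximalIdeal R).map (algebraMap R S) = Ideal.span {algebraMap R S π} := by
      rw [show maximalIdeal R = Ideal.span {π} from hπ, Ideal.map_span, Set.image_singleton]
    have hmem : algebraMap R S π ∈ maximalIdeal S :=
      map_le R S (hm ▸ Ideal.mem_span_singleton_self _)
    have hregR : IsSMulRegular R π := fun a b hab => mul_left_cancel₀ hπ0 hab
    have hreg : IsSMulRegular S (algebraMap R S π) := by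
      intro a b hab
      refine hregR.lTensor (R := R) S |>.of_injective
        (TensorProduct.rid R S).symm.toLinearMap (LinearEquiv.injective _) ?_
      simpa [Algebra.smul_def] using hab
    have hd : depth (Fib R S) (Fib R S) + 1 = depth S S := by
      unfold depth
      rw [← idealDepth_quotSMulTop_add_one hmem hreg, ← IsLocalRing.map_maximalIdeal_of_surjective
        (algebraMap S (Fib R S)) Ideal.Quotient.mk_surjective,
        idealDepth_map_of_surjective Ideal.Quotient.mk_surjective]
      congr 1
      refine idealDepth_congr (Submodule.quotEquivOfEq _ _ ?_)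
      rw [hm, ← Submodule.ideal_span_singleton_smul, smul_eq_mul, Ideal.mul_top]
    rw [ringKrullDim_eq_add R S, ← IsRegularLocalRing.spanFinrank_maximalIdeal (R := R), h1, ← hd,
      WithBot.coe_add, add_comm ((1 : ℕ) : WithBot ℕ∞)]
    calc min (2 : WithBot ℕ∞) (ringKrullDim (Fib R S) + 1)
        ≤ min (2 : WithBot ℕ∞) (ringKrullDim (Fib R S)) + 1 := by
          rw [← min_add_add_right]
          exact min_le_min (le_add_of_nonneg_right zero_le_one) le_rfl
      _ ≤ _ := add_le_add hS le_rfl

end Groth.Agent.FlatAscent
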