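import Groth.Agent.FlatAscent.FieldExt

/-!
# Regularity and normality along flat quotients and separable algebraic extensions
-/

universe u

namespace Groth.Agent.FlatAscent

open IsLocalRing
open scoped TensorProduct

/-- A flat surjection does not change the local rings. -/
theorem nonempty_localization_equiv_of_flat_surjective {R T : Type u} [CommRing R] [CommRing T]
    [Algebra R T] [Module.Flat R T] (hs : Function.Surjective (algebraMap R T))
    (Q : Ideal T) [Q.IsPrime] :
    Nonempty (Localization.AtPrime (Q.comap (algebraMap R T)) ≃+* Localization.AtPrime Q) := by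
  let p := Q.comap (algebraMap R T)
  haveI hlie : Q.LiesOver p := ⟨rfl⟩
  let Rp := Localization.AtPrime p
  let TQ := Localization.AtPrime Q
  letI : Algebra Rp TQ :=
    (Localization.localRingHom p Q (algebraMap R T) hlie.over).toAlgebra
  haveI : IsScalarTower R Rp TQ := IsScalarTower.of_algebraMap_eq fun x => by
    rw [RingHom.algebraMap_toAlgebra, Localization.localRingHom_to_map,
      ← IsScalarTower.algebraMap_apply]
  haveI : IsLocalHom (algebraMap Rp TQ) :=
    Localization.isLocalHom_localRingHom p Q (algebraMap R T) hlie.over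
  haveI : Module.Flat R TQ := Module.Flat.trans R T TQ
  haveI : Module.Flat Rp TQ :=
    (Module.flat_iff_of_isLocalization Rp p.primeCompl TQ).2 inferInstance
  haveI := Module.FaithfullyFlat.of_flat_of_isLocalHom (A := Rp) (B := TQ)
  refine ⟨RingEquiv.ofBijective (algebraMap Rp TQ) ⟨FaithfulSMul.algebraMap_injective Rp TQ, ?_⟩⟩
  intro y
  obtain ⟨⟨t, s⟩, rfl⟩ := IsLocalization.mk'_surjective Q.primeCompl y
  obtain ⟨r, rfl⟩ := hs t
  obtain ⟨r', hr'⟩ := hs (s : T)
  have hp : r' ∈ p.primeCompl := fun h => s.2 (by rw [← hr']; exact h)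
  refine ⟨IsLocalization.mk' Rp r ⟨r', hp⟩, ?_⟩
  rw [IsLocalization.eq_mk'_iff_mul_eq, ← hr', ← IsScalarTower.algebraMap_apply R T TQ,
    ← IsScalarTower.algebraMap_apply R T TQ, IsScalarTower.algebraMap_apply R Rp TQ r',
    IsScalarTower.algebraMap_apply R Rp TQ r, ← map_mul, IsLocalization.mk'_spec Rp r ⟨r', hp⟩]

/-- A flat quotient of a normal ring is normal. -/
theorem isNormalRing_of_flat_surjective {R T : Type u} [CommRing R] [CommRing T]
    [Algebra R T] [Module.Flat R T] (hs : Function.Surjective (algebraMap R T))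
    (h : EGA4.IsNormalRing R) : EGA4.IsNormalRing T := fun Q _ => by
  obtain ⟨e⟩ := nonempty_localization_equiv_of_flat_surjective hs Q
  obtain ⟨hd, hi⟩ := h (Q.comap (algebraMap R T))
  exact ⟨e.symm.toMulEquiv.isDomain, IsIntegrallyClosed.of_equiv e⟩

/-- A flat quotient of a regular ring is regular. -/
theorem isRegularRing_of_flat_surjective {R T : Type u} [CommRing R] [CommRing T]
    [Algebra R T] [Module.Flat R T] (hs : Function.Surjective (algebraMap R T))
    (h : IsRegularRing R) : IsRegularRing T := by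
  have := h
  have : IsNoetherianRing T := isNoetherianRing_of_surjective R T _ hs
  refine isRegularRing_iff.mpr fun Q _ => ?_
  obtain ⟨e⟩ := nonempty_localization_equiv_of_flat_surjective hs Q
  exact IsRegularLocalRing.of_ringEquiv e

variable {k k' : Type u} [Field k] [Field k'] [Algebra k k'] [Algebra.IsSeparable k k']
  {A : Type u} [CommRing A] [Algebra k' A] [Algebra k A] [IsScalarTower k k' A]

omit [Field k] [Algebra k k'] [Algebra.IsSeparable k k'] [Algebra k A] [IsScalarTower k k' A] in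
/-- Base change of a quotient of semisimple rings is a flat quotient. -/
theorem flat_map_of_surjective {R₀ L : Type u} [CommRing R₀] [CommRing L] [Algebra k' R₀] [Algebra k' L]
    [IsSemisimpleRing R₀] (φ : R₀ →ₐ[k'] L) (hφ : Function.Surjective φ) :
    (Algebra.TensorProduct.map φ (AlgHom.id k' A)).toRingHom.Flat ∧
      Function.Surjective (Algebra.TensorProduct.map φ (AlgHom.id k' A)) := by
  refine ⟨?_, TensorProduct.map_surjective hφ Function.surjective_id⟩
  let : Algebra R₀ L := φ.toRingHom.toAlgebra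
  have : IsScalarTower k' R₀ L := .of_algebraMap_eq fun x => (φ.commutes x).symm
  let X := R₀ ⊗[k'] A
  let W := X ⊗[R₀] L
  have : Module.Projective R₀ L := Module.projective_of_isSemisimpleRing R₀ _
  let g : W ≃+* L ⊗[k'] A :=
    (Algebra.TensorProduct.comm R₀ X L).toRingEquiv.trans
      (Algebra.TensorProduct.cancelBaseChange k' R₀ L L A).toRingEquiv
  have h : (Algebra.TensorProduct.map φ (AlgHom.id k' A)).toRingHom =
      g.toRingHom.comp (algebraMap X W) := by
    refine RingHom.ext fun x => ?_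
    induction x using TensorProduct.induction_on with
    | zero => simp
    | add a b ha hb => simp only [map_add, ha, hb]
    | tmul r a =>
      change φ r ⊗ₜ[k'] a = g ((r ⊗ₜ[k'] a) ⊗ₜ[R₀] (1 : L))
      change φ r ⊗ₜ[k'] a = (Algebra.TensorProduct.cancelBaseChange k' R₀ L L A)
        ((1 : L) ⊗ₜ[R₀] (r ⊗ₜ[k'] a))
      rw [Algebra.TensorProduct.cancelBaseChange_tmul, Algebra.smul_def, mul_one]
      rfl
  rw [h]
  exact (RingHom.flat_algebraMap_iff.mpr
    (inferInstance : Module.Flat X W)).comp (RingHom.Flat.of_bijective g.bijective)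

/-- Local rings of `L ⊗[k] A` are local rings of `F ⊗[k'] A` with `F` finite over `k'`. -/
theorem exists_separable_quotient (L : Type u) [Field L] [Algebra k L] [Module.Finite k L]
    (Q : Ideal (L ⊗[k] A)) [Q.IsPrime] :
    ∃ (F : Type u) (_ : Field F) (_ : Algebra k' F) (Q' : Ideal (F ⊗[k'] A)) (_ : Q'.IsPrime),
      Module.Finite k' F ∧
        Nonempty (Localization.AtPrime Q' ≃+* Localization.AtPrime Q) := by
  let R₀ := k' ⊗[k] L
  have : Algebra.IsGeometricallyReduced k k' :=
    have := Algebra.FormallyEtale.of_isSeparable k k'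
    Groth.Agent.EGA41Lib.formallySmooth_iff_isGeometricallyReduced.mp inferInstance
  have : IsReduced R₀ := Groth.Agent.EGA41Lib.isReduced_tensor L
  have : IsArtinianRing R₀ := IsArtinianRing.of_finite k' R₀
  have : IsSemisimpleRing R₀ := IsArtinianRing.isSemisimpleRing_of_isReduced R₀
  let X := R₀ ⊗[k'] A
  let e : X ≃+* L ⊗[k] A :=
    ((Algebra.TensorProduct.comm k' R₀ A).toRingEquiv.trans
      (Algebra.TensorProduct.cancelBaseChange k k' A A L).toRingEquiv).trans
      (Algebra.TensorProduct.comm k A L).toRingEquiv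
  let P := Q.comap e
  let m := P.comap (algebraMap R₀ X)
  have : m.IsMaximal := IsArtinianRing.isMaximal_of_isPrime m
  let := Ideal.Quotient.field m
  let F := R₀ ⧸ m
  let φ : R₀ →ₐ[k'] F := Ideal.Quotient.mkₐ k' m
  let π : X →ₐ[k'] F ⊗[k'] A := Algebra.TensorProduct.map φ (AlgHom.id k' A)
  obtain ⟨hflat, hsurj⟩ := flat_map_of_surjective (A := A) φ Ideal.Quotient.mk_surjective
  let fκ : X →ₐ[k'] P.ResidueField := IsScalarTower.toAlgHom k' X P.ResidueField
  let jF : F →ₐ[k'] P.ResidueField := Ideal.Quotient.liftₐ m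
    (fκ.comp Algebra.TensorProduct.includeLeft) fun r hr =>
      Ideal.algebraMap_residueField_eq_zero.mpr hr
  let h : F ⊗[k'] A →ₐ[k'] P.ResidueField := Algebra.TensorProduct.lift jF
    (fκ.comp Algebra.TensorProduct.includeRight) fun _ _ => .all ..
  have hh : h.comp π = fκ := Algebra.TensorProduct.ext'  fun r a => by
    change jF (φ r) * fκ ((1 : R₀) ⊗ₜ a) = fκ (r ⊗ₜ a)
    change fκ (r ⊗ₜ (1 : A)) * fκ ((1 : R₀) ⊗ₜ a) = fκ (r ⊗ₜ a)
    rw [← map_mul, Algebra.TensorProduct.tmul_mul_tmul, mul_one, one_mul]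
  let Q' : Ideal (F ⊗[k'] A) := RingHom.ker h
  have : Q'.IsPrime := RingHom.ker_isPrime _
  let : Algebra X (F ⊗[k'] A) := π.toRingHom.toAlgebra
  have : Module.Flat X (F ⊗[k'] A) := hflat
  have hQ' : Q'.comap (algebraMap X (F ⊗[k'] A)) = P := by
    ext x
    change h (π x) = 0 ↔ _
    rw [← AlgHom.comp_apply, hh]
    exact Ideal.algebraMap_residueField_eq_zero
  obtain ⟨e₁⟩ := nonempty_localization_equiv_of_flat_surjective (R := X) (T := F ⊗[k'] A) hsurj Q'
  have key : ∀ (P' : Ideal X) [P'.IsPrime], P' = P →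
      Nonempty (Localization.AtPrime P' ≃+* Localization.AtPrime Q) := by
    rintro P' _ rfl
    exact ⟨IsLocalization.ringEquivOfRingEquiv (Localization.AtPrime P) (Localization.AtPrime Q) e
      (e.map_primeCompl_comap_eq Q)⟩
  obtain ⟨e₂⟩ := key _ hQ'
  exact ⟨F, inferInstance, inferInstance, Q', inferInstance, inferInstance, ⟨e₁.symm.trans e₂⟩⟩

/-- For `L` finite over `k'`, `L ⊗[k'] A` is a flat quotient of some `k₀ ⊗[k] A`. -/
theorem exists_flat_quotient (L : Type u) [Field L] [Algebra k' L] [Module.Finite k' L] :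
    ∃ (k₀ : Type u) (_ : Field k₀) (_ : Algebra k k₀) (_ : Algebra (k₀ ⊗[k] A) (L ⊗[k'] A)),
      Module.Finite k k₀ ∧ Module.Flat (k₀ ⊗[k] A) (L ⊗[k'] A) ∧
      Function.Surjective (algebraMap (k₀ ⊗[k] A) (L ⊗[k'] A)) := by
  classical
  let : Algebra k L := ((algebraMap k' L).comp (algebraMap k k')).toAlgebra
  have : IsScalarTower k k' L := .of_algebraMap_eq fun _ => rfl
  have : Algebra.IsAlgebraic k k' := Algebra.IsSeparable.isAlgebraic k k'
  have : Algebra.IsAlgebraic k L := Algebra.IsAlgebraic.trans k k' L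
  obtain ⟨s, hs⟩ := (Module.Finite.fg_top : (⊤ : Submodule k' L).FG)
  obtain ⟨k₀, _, _, j, _, hj⟩ : ∃ (k₀ : Type u) (_ : Field k₀) (_ : Algebra k k₀) (j : k₀ →ₐ[k] L),
      Module.Finite k k₀ ∧ ∀ x ∈ s, x ∈ Set.range j :=
    ⟨IntermediateField.adjoin k (s : Set L), inferInstance, inferInstance, IntermediateField.val _,
      IntermediateField.finiteDimensional_adjoin fun x _ => (Algebra.IsAlgebraic.isAlgebraic x).isIntegral,
      fun x hx => ⟨⟨x, IntermediateField.subset_adjoin k (s : Set L) hx⟩, rfl⟩⟩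
  let R₀ := k' ⊗[k] k₀
  have : Algebra.IsGeometricallyReduced k k' :=
    have := Algebra.FormallyEtale.of_isSeparable k k'
    Groth.Agent.EGA41Lib.formallySmooth_iff_isGeometricallyReduced.mp inferInstance
  have : IsReduced R₀ := Groth.Agent.EGA41Lib.isReduced_tensor k₀
  have : IsArtinianRing R₀ := IsArtinianRing.of_finite k' R₀
  have : IsSemisimpleRing R₀ := IsArtinianRing.isSemisimpleRing_of_isReduced R₀
  let φ : R₀ →ₐ[k'] L := Algebra.TensorProduct.lift (Algebra.ofId k' L) j fun _ _ => .all ..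
  have hφ : Function.Surjective φ := by
    intro x
    have hx : x ∈ Submodule.span k' (s : Set L) := by rw [hs]; trivial
    induction hx using Submodule.span_induction with
    | mem x hx =>
      obtain ⟨c, rfl⟩ := hj x hx
      exact ⟨(1 : k') ⊗ₜ c, (Algebra.TensorProduct.lift_tmul ..).trans (by rw [map_one, one_mul])⟩
    | zero => exact ⟨0, map_zero _⟩
    | add x y _ _ hx hy =>
      obtain ⟨a, rfl⟩ := hx; obtain ⟨b, rfl⟩ := hy; exact ⟨a + b, map_add _ _ _⟩
    | smul c x _ hx =>
      obtain ⟨a, rfl⟩ := hx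
      exact ⟨c • a, map_smul φ c a⟩
  obtain ⟨hflat, hι⟩ := flat_map_of_surjective (A := A) φ hφ
  let e : R₀ ⊗[k'] A ≃+* k₀ ⊗[k] A :=
    ((Algebra.TensorProduct.comm k' R₀ A).toRingEquiv.trans
      (Algebra.TensorProduct.cancelBaseChange k k' A A k₀).toRingEquiv).trans
      (Algebra.TensorProduct.comm k A k₀).toRingEquiv
  exact ⟨k₀, inferInstance, inferInstance, ((Algebra.TensorProduct.map φ (AlgHom.id k' A)).toRingHom.comp e.symm.toRingHom).toAlgebra, inferInstance,
    (RingHom.Flat.of_bijective e.symm.bijective).comp hflat, hι.comp e.symm.surjective⟩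

theorem isGeomNormal_iff_of_isSeparable : EGA4.IsGeomNormal k A ↔ EGA4.IsGeomNormal k' A := by
  refine ⟨fun h L _ _ hL => ?_, fun h L _ _ hL Q _ => ?_⟩
  · obtain ⟨k₀, _, _, _, hfin, hflat, hs⟩ := exists_flat_quotient (k := k) (k' := k') (A := A) L
    exact isNormalRing_of_flat_surjective hs (h k₀ hfin)
  · obtain ⟨F, _, _, Q', _, hfin, ⟨e⟩⟩ := exists_separable_quotient (k' := k') L Q
    obtain ⟨hd, hi⟩ := h F hfin Q'
    exact ⟨e.symm.toMulEquiv.isDomain, IsIntegrallyClosed.of_equiv e⟩

theorem isGeometricallyRegular_iff_of_isSeparable [IsNoetherianRing A] :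
    CAlg.IsGeometricallyRegular k A ↔ CAlg.IsGeometricallyRegular k' A := by
  refine ⟨fun h L _ _ hL => ?_, fun h L _ _ hL => ?_⟩
  · obtain ⟨k₀, _, _, _, hfin, hflat, hs⟩ := exists_flat_quotient (k := k) (k' := k') (A := A) L
    exact isRegularRing_of_flat_surjective hs (h k₀ hfin)
  · have : IsNoetherianRing (L ⊗[k] A) := isNoetherianRing_fibre_tensor
    refine isRegularRing_iff.mpr fun Q _ => ?_
    obtain ⟨F, _, _, Q', _, hfin, ⟨e⟩⟩ := exists_separable_quotient (k' := k') L Q
    have := h F hfin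
    exact IsRegularLocalRing.of_ringEquiv e

end Groth.Agent.FlatAscent
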